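import Mathlib

/-!
# Finite Fourier analysis on `ZMod p` for the Brauer-Feit bound (helper57, job S4698-F)

`fourier_core`: from the integer "columns" `v a` (`a : ZMod p`), with Fourier transforms `D t`
pairwise equal or orthogonal and of norm `p` at `t ≠ 0`, one gets `m` integer vectors
`Θ i = v (j i) - v 0` with Gram matrix `1 + e·J`, `p = 1 + e·m`, spanning the same space as
the `D t`, `t ≠ 0`.
-/

set_option autoImplicit false

namespace Cfsg.Agent.Lib.BF

open scoped ComplexConjugate

/-- An integer combination of `1, η, …, η^(p-1)` (`η` a primitive `p`-th root of unity, `p`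
prime) vanishes only if all its coefficients are equal. -/
theorem bfF_const_of_sum_pow_eq_zero {p : ℕ} [Fact p.Prime] (η : ℂ) (hη : IsPrimitiveRoot η p)
    (c : ZMod p → ℤ) (h : ∑ a : ZMod p, (c a : ℂ) * η ^ a.val = 0) (a b : ZMod p) :
    c a = c b := by
  have hp : p.Prime := Fact.out
  have hp0 : 0 < p := hp.pos
  set P : Polynomial ℤ := ∑ a : ZMod p, Polynomial.C (c a) * Polynomial.X ^ a.val with hP
  have hev : Polynomial.aeval η P = 0 := by
    rw [hP, map_sum, ← h]
    refine Finset.sum_congr rfl fun j _ => ?_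
    rw [map_mul, map_pow, Polynomial.aeval_X, Polynomial.aeval_C]
    simp
  have h2 : minpoly ℤ η ∣ P := minpoly.isIntegrallyClosed_dvd (hη.isIntegral hp0) hev
  rw [← Polynomial.cyclotomic_eq_minpoly hη hp0] at h2
  obtain ⟨R, hR⟩ := h2
  have hcoeff : ∀ a : ZMod p, P.coeff a.val = c a := by
    intro a
    rw [hP, Polynomial.finsetSum_coeff]
    simp only [Polynomial.coeff_C_mul_X_pow]
    rw [Finset.sum_eq_single a]
    · simp
    · intro b _ hb
      rw [if_neg]
      intro h
      exact hb (ZMod.val_injective p h).symm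
    · simp
  have hdeg : P.natDegree ≤ p - 1 := by
    rw [hP]
    refine Polynomial.natDegree_sum_le_of_forall_le _ _ fun a _ => ?_
    refine (Polynomial.natDegree_C_mul_X_pow_le _ _).trans ?_
    have := ZMod.val_lt a
    omega
  have hcyc : (Polynomial.cyclotomic p ℤ).natDegree = p - 1 := by
    rw [Polynomial.natDegree_cyclotomic, Nat.totient_prime hp]
  have hRc : ∃ k : ℤ, ∀ a : ZMod p, c a = k := by
    by_cases hR0 : R = 0
    · refine ⟨0, fun a => ?_⟩
      rw [← hcoeff a, hR, hR0, mul_zero, Polynomial.coeff_zero]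
    · have hc0 : Polynomial.cyclotomic p ℤ ≠ 0 := Polynomial.cyclotomic_ne_zero p ℤ
      have hdR : R.natDegree = 0 := by
        have := Polynomial.natDegree_mul hc0 hR0
        rw [← hR, hcyc] at this
        omega
      obtain ⟨k, hk⟩ : ∃ k, R = Polynomial.C k :=
        ⟨R.coeff 0, Polynomial.eq_C_of_natDegree_eq_zero hdR⟩
      refine ⟨k, fun a => ?_⟩
      rw [← hcoeff a, hR, hk, Polynomial.cyclotomic_prime, Polynomial.coeff_mul_C,
        Polynomial.finsetSum_coeff]
      simp only [Polynomial.coeff_X_pow]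
      rw [Finset.sum_eq_single a.val]
      · simp
      · intro i _ hi
        rw [if_neg (fun h => hi h.symm)]
      · intro h
        exact absurd (Finset.mem_range.mpr (ZMod.val_lt a)) h
  obtain ⟨k, hk⟩ := hRc
  rw [hk a, hk b]

/-- Sums over `ZMod p` of a function vanishing at `0`, as sums over the units. -/
theorem bfF_sum_units_mul {p : ℕ} [Fact p.Prime] (g : ZMod p → ℂ) (h0 : g 0 = 0) (t : ZMod p)
    (ht : t ≠ 0) : ∑ s : (ZMod p)ˣ, g ((s : ZMod p) * t) = ∑ t' : ZMod p, g t' := by
  classical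
  have h1 : ∑ t' : ZMod p, g t' = ∑ t' ∈ Finset.univ.filter (fun x : ZMod p => x ≠ 0), g t' := by
    symm
    apply Finset.sum_filter_of_ne
    intro x _ hx h
    exact hx (h ▸ h0)
  rw [h1, Finset.sum_subtype (Finset.univ.filter (fun x : ZMod p => x ≠ 0))
    (p := fun x : ZMod p => x ≠ 0) (by simp) g]
  refine Fintype.sum_equiv ((Equiv.mulRight (Units.mk0 t ht)).trans unitsEquivNeZero) _ _ ?_
  intro s
  simp


theorem fourier_core {ι : Type*} [Fintype ι] (p : ℕ) [Fact p.Prime] (ζ : ℂ)
    (hζ : IsPrimitiveRoot ζ p) (S : Set ι) (v : ZMod p → ι → ℤ)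
    (hsupp : ∀ a θ, θ ∉ S → v a θ = 0)
    (D : ZMod p → ι → ℂ) (hD : ∀ t θ, D t θ = ∑ a : ZMod p, (v a θ : ℂ) * ζ ^ (a * t).val)
    (H2 : ∀ t t' : ZMod p, t ≠ 0 → t' ≠ 0 →
      D t = D t' ∨ ∑ θ, D t θ * conj (D t' θ) = 0)
    (H3 : ∀ t : ZMod p, t ≠ 0 → ∑ θ, D t θ * conj (D t θ) = (p : ℂ))
    (H4 : ∀ θ ∈ S, D 1 θ ≠ 0) :
    ∃ (m e : ℕ) (Θ : Fin m → ι → ℤ), 1 ≤ m ∧ 1 ≤ e ∧ p = 1 + e * m ∧
      (∀ i θ, θ ∉ S → Θ i θ = 0) ∧
      (∀ i j, ∑ θ, Θ i θ * Θ j θ = (if i = j then 1 else 0) + (e : ℤ)) ∧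
      (∀ θ ∈ S, ∃ i, Θ i θ ≠ 0) ∧
      (∀ y : ι → ℂ, (∀ i, ∑ θ, y θ * (Θ i θ : ℂ) = 0) ↔
        (∀ t : ZMod p, t ≠ 0 → ∑ θ, y θ * D t θ = 0)) := by
  classical
  have hp : p.Prime := Fact.out
  have hpC : (p : ℂ) ≠ 0 := Nat.cast_ne_zero.mpr hp.ne_zero
  set ψ : AddChar (ZMod p) ℂ := AddChar.zmodChar p hζ.pow_eq_one with hψdef
  have hψ : ψ.IsPrimitive := AddChar.zmodChar_primitive_of_primitive_root p hζ
  have hψapp : ∀ a, ψ a = ζ ^ a.val := fun a => AddChar.zmodChar_apply _ a
  have hD' : ∀ t θ, D t θ = ∑ a : ZMod p, (v a θ : ℂ) * ψ (a * t) := by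
    intro t θ
    rw [hD]
    exact Finset.sum_congr rfl fun a _ => by rw [hψapp]
  -- orthogonality
  have horth : ∀ b : ZMod p, ∑ x : ZMod p, ψ (x * b) = if b = 0 then (p : ℂ) else 0 := by
    intro b
    rw [AddChar.sum_mulShift b hψ, ZMod.card]
    split_ifs <;> simp
  -- the stabiliser subgroup
  let E : Subgroup (ZMod p)ˣ :=
    { carrier := {s | ∀ a, v ((s : ZMod p) * a) = v a}
      mul_mem' := by
        intro s s' hs hs' a
        rw [Units.val_mul, mul_assoc, hs, hs']
      one_mem' := by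
        intro a
        rw [Units.val_one, one_mul]
      inv_mem' := by
        intro s hs a
        have := hs ((s⁻¹ : (ZMod p)ˣ) * a)
        rw [← mul_assoc, ← Units.val_mul, mul_inv_cancel, Units.val_one, one_mul] at this
        exact this.symm }
  have hEmem : ∀ s : (ZMod p)ˣ, s ∈ E ↔ ∀ a, v ((s : ZMod p) * a) = v a := fun s => Iff.rfl
  -- (2a)
  have hE1 : ∀ s ∈ E, ∀ t, D ((s : ZMod p) * t) = D t := by
    intro s hs t
    funext θ
    rw [hD', hD']
    rw [← Fintype.sum_equiv (Units.mulLeft s) (fun a => (v ((s : ZMod p) * a) θ : ℂ) *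
      ψ ((s : ZMod p) * a * t)) (fun a => (v a θ : ℂ) * ψ (a * t)) (fun a => by simp)]
    refine Finset.sum_congr rfl fun a _ => ?_
    rw [(hEmem s).1 hs a]
    congr 2
    ring
  -- (2b)
  have hE2 : ∀ (s : (ZMod p)ˣ) (t : ZMod p), t ≠ 0 → D ((s : ZMod p) * t) = D t → s ∈ E := by
    intro s t ht h
    have hinv : s⁻¹ ∈ E := by
      rw [hEmem]
      intro a
      funext θ
      have hη : IsPrimitiveRoot (ψ t) p := by
        rw [hψapp]
        refine hζ.pow_of_coprime _ ?_
        have h1 : ¬ p ∣ t.val := by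
          intro hdvd
          have := Nat.eq_zero_of_dvd_of_lt hdvd (ZMod.val_lt t)
          exact ht ((ZMod.val_eq_zero t).mp this)
        exact ((Nat.Prime.coprime_iff_not_dvd hp).2 h1).symm
      have hpow : ∀ a : ZMod p, ψ (a * t) = ψ t ^ a.val := by
        intro a
        rw [← AddChar.map_nsmul_eq_pow, nsmul_eq_mul, ZMod.natCast_zmod_val]
      have hsum : ∑ a : ZMod p,
          ((v (((s⁻¹ : (ZMod p)ˣ) : ZMod p) * a) θ - v a θ : ℤ) : ℂ) * ψ t ^ a.val = 0 := by
        have e1 : ∑ a : ZMod p, (v (((s⁻¹ : (ZMod p)ˣ) : ZMod p) * a) θ : ℂ) * ψ (a * t) =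
            D ((s : ZMod p) * t) θ := by
          rw [hD']
          rw [← Fintype.sum_equiv (Units.mulLeft s)
            (fun a => (v (((s⁻¹ : (ZMod p)ˣ) : ZMod p) * ((s : ZMod p) * a)) θ : ℂ) *
              ψ ((s : ZMod p) * a * t))
            (fun a => (v (((s⁻¹ : (ZMod p)ˣ) : ZMod p) * a) θ : ℂ) * ψ (a * t))
            (fun a => rfl)]
          refine Finset.sum_congr rfl fun a _ => ?_
          rw [← mul_assoc, ← Units.val_mul, inv_mul_cancel, Units.val_one, one_mul]
          congr 2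
          ring
        have e2 := congrFun h θ
        rw [← e1, hD'] at e2
        rw [← sub_eq_zero, ← Finset.sum_sub_distrib] at e2
        rw [← e2]
        refine Finset.sum_congr rfl fun a _ => ?_
        rw [hpow]
        push_cast
        ring
      have hc := bfF_const_of_sum_pow_eq_zero (ψ t) hη
        (fun a => v (((s⁻¹ : (ZMod p)ˣ) : ZMod p) * a) θ - v a θ) hsum a 0
      simp only [mul_zero, sub_self] at hc
      exact sub_eq_zero.mp hc
    have h3 := E.inv_mem hinv
    rwa [inv_inv] at h3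
  have hR : ∀ (s : (ZMod p)ˣ) (t : ZMod p), t ≠ 0 →
      ∑ θ, D t θ * conj (D ((s : ZMod p) * t) θ) = if s ∈ E then (p : ℂ) else 0 := by
    intro s t ht
    split_ifs with hs
    · rw [hE1 s hs t]
      exact H3 t ht
    · rcases H2 t (s * t) ht (mul_ne_zero s.ne_zero ht) with h | h
      · exact absurd (hE2 s t ht h.symm) hs
      · exact h
  -- Fourier inversion
  have hinv : ∀ b θ, (p : ℂ) * (v b θ : ℂ) = ∑ t : ZMod p, D t θ * ψ (-(t * b)) := by
    intro b θ
    simp_rw [hD', Finset.sum_mul]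
    rw [Finset.sum_comm]
    have : ∀ a : ZMod p, ∑ t : ZMod p, (v a θ : ℂ) * ψ (a * t) * ψ (-(t * b)) =
        (v a θ : ℂ) * (if a - b = 0 then (p : ℂ) else 0) := by
      intro a
      rw [← horth (a - b), Finset.mul_sum]
      refine Finset.sum_congr rfl fun t _ => ?_
      rw [mul_assoc, ← AddChar.map_add_eq_mul]
      congr 2
      ring
    simp_rw [this, sub_eq_zero]
    simp [mul_comm]
  have hinv2 : ∀ b θ, (p : ℂ) * ((v b θ : ℂ) - (v 0 θ : ℂ)) =
      ∑ t : ZMod p, D t θ * (ψ (-(t * b)) - 1) := by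
    intro b θ
    rw [mul_sub, hinv, hinv]
    rw [← Finset.sum_sub_distrib]
    refine Finset.sum_congr rfl fun t _ => ?_
    rw [mul_zero, neg_zero, AddChar.map_zero_eq_one]
    ring
  -- the Gram computation
  have hgram : ∀ j j' : (ZMod p)ˣ,
      (p : ℂ) * (p : ℂ) * ∑ θ, ((v j θ : ℂ) - v 0 θ) * ((v j' θ : ℂ) - v 0 θ) =
        ∑ s : (ZMod p)ˣ, (if s ∈ E then (p : ℂ) else 0) *
          ((if (s : ZMod p) * j' - j = 0 then (p : ℂ) else 0) + p) := by
    intro j j'
    set cj : ZMod p → ℂ := fun t => ψ (-(t * j)) - 1 with hcj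
    set cb : ZMod p → ℂ := fun t => ψ (t * j') - 1 with hcb
    have hcj0 : cj 0 = 0 := by simp [hcj]
    have hcb0 : cb 0 = 0 := by simp [hcb]
    have step1 : (p : ℂ) * (p : ℂ) * ∑ θ, ((v j θ : ℂ) - v 0 θ) * ((v j' θ : ℂ) - v 0 θ) =
        ∑ t : ZMod p, cj t * ∑ t' : ZMod p, cb t' * ∑ θ, D t θ * conj (D t' θ) := by
      have hconj : ∀ θ, (p : ℂ) * ((v j' θ : ℂ) - v 0 θ) =
          ∑ t' : ZMod p, conj (D t' θ) * cb t' := by
        intro θ
        have h1 := congrArg conj (hinv2 j' θ)
        rw [map_mul, map_sub, map_sum] at h1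
        simp only [map_natCast, map_intCast] at h1
        rw [h1]
        refine Finset.sum_congr rfl fun t' _ => ?_
        rw [map_mul, map_sub, map_one, ← AddChar.map_neg_eq_conj, neg_neg]
      calc (p : ℂ) * (p : ℂ) * ∑ θ, ((v j θ : ℂ) - v 0 θ) * ((v j' θ : ℂ) - v 0 θ)
          = ∑ θ, ((p : ℂ) * ((v j θ : ℂ) - v 0 θ)) * ((p : ℂ) * ((v j' θ : ℂ) - v 0 θ)) := by
            rw [Finset.mul_sum]
            exact Finset.sum_congr rfl fun θ _ => by ring
        _ = ∑ θ, (∑ t : ZMod p, D t θ * cj t) * (∑ t' : ZMod p, conj (D t' θ) * cb t') := by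
            refine Finset.sum_congr rfl fun θ _ => ?_
            rw [hinv2 j θ, hconj θ]
        _ = ∑ θ, ∑ t : ZMod p, ∑ t' : ZMod p, cj t * (cb t' * (D t θ * conj (D t' θ))) := by
            refine Finset.sum_congr rfl fun θ _ => ?_
            rw [Finset.sum_mul_sum]
            exact Finset.sum_congr rfl fun t _ => Finset.sum_congr rfl fun t' _ => by ring
        _ = ∑ t : ZMod p, ∑ t' : ZMod p, ∑ θ, cj t * (cb t' * (D t θ * conj (D t' θ))) := by
            rw [Finset.sum_comm]
            refine Finset.sum_congr rfl fun t _ => ?_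
            rw [Finset.sum_comm]
        _ = _ := by
            refine Finset.sum_congr rfl fun t _ => ?_
            rw [Finset.mul_sum]
            refine Finset.sum_congr rfl fun t' _ => ?_
            rw [Finset.mul_sum, Finset.mul_sum]
    have step2 : ∀ t : ZMod p, cj t * ∑ t' : ZMod p, cb t' * ∑ θ, D t θ * conj (D t' θ) =
        cj t * ∑ s : (ZMod p)ˣ, cb ((s : ZMod p) * t) * (if s ∈ E then (p : ℂ) else 0) := by
      intro t
      by_cases ht : t = 0
      · rw [ht, hcj0, zero_mul, zero_mul]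
      · congr 1
        rw [← bfF_sum_units_mul (fun t' => cb t' * ∑ θ, D t θ * conj (D t' θ))
          (by simp [hcb0]) t ht]
        refine Finset.sum_congr rfl fun s _ => ?_
        rw [hR s t ht]
    have step3 : ∀ s : (ZMod p)ˣ, ∑ t : ZMod p, cj t * cb ((s : ZMod p) * t) =
        (if (s : ZMod p) * j' - j = 0 then (p : ℂ) else 0) + p := by
      intro s
      have e1 : ∀ t : ZMod p, cj t * cb ((s : ZMod p) * t) =
          ψ (t * ((s : ZMod p) * j' - j)) - ψ (t * (-(j : ZMod p))) -
            ψ (t * ((s : ZMod p) * j')) + 1 := by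
        intro t
        simp only [hcj, hcb]
        have h1 : ψ (t * ((s : ZMod p) * j' - j)) = ψ (-(t * j)) * ψ ((s : ZMod p) * t * j') := by
          rw [← AddChar.map_add_eq_mul]
          congr 1
          ring
        rw [h1]
        have h2 : t * (-(j : ZMod p)) = -(t * j) := by ring
        rw [h2]
        have h3 : t * ((s : ZMod p) * j') = (s : ZMod p) * t * j' := by ring
        rw [h3]
        ring
      simp_rw [e1]
      rw [Finset.sum_add_distrib, Finset.sum_sub_distrib, Finset.sum_sub_distrib, horth, horth,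
        horth]
      rw [if_neg (neg_ne_zero.mpr j.ne_zero), if_neg (mul_ne_zero s.ne_zero j'.ne_zero)]
      simp [ZMod.card]
    rw [step1]
    simp_rw [step2]
    simp_rw [Finset.mul_sum]
    rw [Finset.sum_comm]
    refine Finset.sum_congr rfl fun s _ => ?_
    rw [← step3 s, Finset.mul_sum]
    exact Finset.sum_congr rfl fun t _ => by ring
  -- the cosets
  have hm : 1 ≤ Nat.card ((ZMod p)ˣ ⧸ E) := Nat.card_pos
  have he : 1 ≤ Nat.card E := Nat.card_pos
  have hpem : p = 1 + Nat.card E * Nat.card ((ZMod p)ˣ ⧸ E) := by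
    have h1 : Nat.card E * E.index = Nat.card (ZMod p)ˣ := Subgroup.card_mul_index E
    have h2 : Nat.card (ZMod p)ˣ = p - 1 := by
      rw [Nat.card_eq_fintype_card, ZMod.card_units]
    have h3 : Nat.card E * Nat.card ((ZMod p)ˣ ⧸ E) = p - 1 := by
      rw [← h2, ← h1]
      rfl
    have := hp.two_le
    omega
  let eqv : Fin (Nat.card ((ZMod p)ˣ ⧸ E)) ≃ (ZMod p)ˣ ⧸ E := (Finite.equivFin _).symm
  let rep : Fin (Nat.card ((ZMod p)ˣ ⧸ E)) → (ZMod p)ˣ := fun i => Quotient.out (eqv i)
  have hrep : ∀ i, (QuotientGroup.mk (rep i) : (ZMod p)ˣ ⧸ E) = eqv i :=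
    fun i => Quotient.out_eq _
  have hcover : ∀ a : (ZMod p)ˣ, ∃ i, ∃ s ∈ E, a = s * rep i := by
    intro a
    refine ⟨eqv.symm (QuotientGroup.mk a), (rep (eqv.symm (QuotientGroup.mk a)))⁻¹ * a, ?_, ?_⟩
    · rw [← QuotientGroup.eq, hrep, Equiv.apply_symm_apply]
    · rw [mul_comm, mul_inv_cancel_left]
  have hvrep : ∀ a : ZMod p, a ≠ 0 → ∃ i, v a = v (rep i) := by
    intro a ha
    obtain ⟨i, s, hs, hi⟩ := hcover (Units.mk0 a ha)
    refine ⟨i, ?_⟩
    have h1 : a = (s : ZMod p) * (rep i : ZMod p) := by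
      have := congrArg (fun u : (ZMod p)ˣ => (u : ZMod p)) hi
      simpa using this
    rw [h1, (hEmem s).1 hs]
  refine ⟨Nat.card ((ZMod p)ˣ ⧸ E), Nat.card E, fun i θ => v (rep i) θ - v 0 θ, hm, he, hpem,
    ?_, ?_, ?_, ?_⟩
  · intro i θ hθ
    simp only [hsupp _ θ hθ, sub_self]
  · intro i i'
    have hcast : ((∑ θ, (v (rep i) θ - v 0 θ) * (v (rep i') θ - v 0 θ) : ℤ) : ℂ) =
        (((if i = i' then 1 else 0) + (Nat.card E : ℤ) : ℤ) : ℂ) := by
      apply mul_left_cancel₀ (mul_ne_zero hpC hpC)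
      push_cast
      rw [hgram (rep i) (rep i')]
      have hterm : ∀ s : (ZMod p)ˣ, (if s ∈ E then (p : ℂ) else 0) *
          ((if (s : ZMod p) * (rep i' : ZMod p) - (rep i : ZMod p) = 0 then (p : ℂ) else 0) + p) =
          (if s ∈ E then (p : ℂ) * p else 0) +
            (if s = 1 then (if i = i' then (p : ℂ) * p else 0) else 0) := by
        intro s
        have hiff : (s ∈ E ∧ (s : ZMod p) * (rep i' : ZMod p) - (rep i : ZMod p) = 0) ↔
            (s = 1 ∧ i = i') := by
          constructor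
          · rintro ⟨hs, h0⟩
            have h1 : s * rep i' = rep i := by
              apply Units.ext
              rw [Units.val_mul]
              exact sub_eq_zero.mp h0
            have h2 : i' = i := by
              apply eqv.injective
              rw [← hrep, ← hrep, QuotientGroup.eq, ← h1]
              rw [mul_comm s, inv_mul_cancel_left]
              exact hs
            subst h2
            refine ⟨?_, rfl⟩
            exact mul_eq_right.mp h1
          · rintro ⟨rfl, rfl⟩
            refine ⟨E.one_mem, ?_⟩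
            rw [Units.val_one, one_mul, sub_self]
        by_cases hs : s ∈ E
        · by_cases h0 : (s : ZMod p) * (rep i' : ZMod p) - (rep i : ZMod p) = 0
          · obtain ⟨h1, h2⟩ := hiff.mp ⟨hs, h0⟩
            simp only [if_pos hs, if_pos h0, if_pos h1, if_pos h2]
            ring
          · have h3 : ¬ (s = 1 ∧ i = i') := fun h => h0 (hiff.mpr h).2
            by_cases h1 : s = 1
            · simp only [if_pos hs, if_neg h0, if_pos h1, if_neg (fun h => h3 ⟨h1, h⟩)]
              ring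
            · simp only [if_pos hs, if_neg h0, if_neg h1]
              ring
        · have h1 : s ≠ 1 := fun h => hs (h ▸ E.one_mem)
          simp only [if_neg hs, if_neg h1]
          ring
      simp_rw [hterm]
      rw [Finset.sum_add_distrib, Finset.sum_ite_eq' Finset.univ (1 : (ZMod p)ˣ),
        if_pos (Finset.mem_univ _), ← Finset.sum_filter, Finset.sum_const]
      have hcard : (Finset.univ.filter (fun s : (ZMod p)ˣ => s ∈ E)).card = Nat.card E := by
        rw [Nat.card_eq_fintype_card, Fintype.card_subtype]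
      rw [hcard]
      split_ifs <;> simp <;> ring
    exact_mod_cast hcast
  · intro θ hθ
    by_contra hcon0
    have hcon : ∀ i, v (rep i) θ - v 0 θ = 0 := fun i => by_contra fun h => hcon0 ⟨i, h⟩
    have hall : ∀ a : ZMod p, v a θ = v 0 θ := by
      intro a
      by_cases ha : a = 0
      · rw [ha]
      · obtain ⟨i, hi⟩ := hvrep a ha
        rw [hi]
        exact sub_eq_zero.mp (hcon i)
    apply H4 θ hθ
    rw [hD']
    simp_rw [hall]
    rw [← Finset.mul_sum, horth 1, if_neg one_ne_zero, mul_zero]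
  · intro y
    constructor
    · intro hy t ht
      have hya : ∀ a : ZMod p, ∑ θ, y θ * ((v a θ : ℂ) - v 0 θ) = 0 := by
        intro a
        by_cases ha : a = 0
        · simp [ha]
        · obtain ⟨i, hi⟩ := hvrep a ha
          rw [hi]
          have h1 := hy i
          simpa using h1
      have hDt : ∀ θ, D t θ = ∑ a : ZMod p, ((v a θ : ℂ) - v 0 θ) * ψ (a * t) := by
        intro θ
        rw [hD']
        simp_rw [sub_mul]
        rw [Finset.sum_sub_distrib, ← Finset.mul_sum, horth t, if_neg ht, mul_zero, sub_zero]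
      simp_rw [hDt, Finset.mul_sum]
      rw [Finset.sum_comm]
      refine Finset.sum_eq_zero fun a _ => ?_
      have h1 := hya a
      rw [show ∑ θ, y θ * (((v a θ : ℂ) - v 0 θ) * ψ (a * t)) =
          (∑ θ, y θ * ((v a θ : ℂ) - v 0 θ)) * ψ (a * t) by
        rw [Finset.sum_mul]
        exact Finset.sum_congr rfl fun θ _ => by ring]
      rw [h1, zero_mul]
    · intro hy i
      have h1 : (p : ℂ) * ∑ θ, y θ * ((v (rep i) θ : ℂ) - v 0 θ) = 0 := by
        rw [Finset.mul_sum]
        have h2 : ∀ θ, (p : ℂ) * (y θ * ((v (rep i) θ : ℂ) - v 0 θ)) =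
            ∑ t : ZMod p, (ψ (-(t * (rep i : ZMod p))) - 1) * (y θ * D t θ) := by
          intro θ
          rw [mul_left_comm, hinv2, Finset.mul_sum]
          exact Finset.sum_congr rfl fun t _ => by ring
        simp_rw [h2]
        rw [Finset.sum_comm]
        refine Finset.sum_eq_zero fun t _ => ?_
        rw [← Finset.mul_sum]
        by_cases ht : t = 0
        · simp [ht]
        · rw [hy t ht, mul_zero]
      have h2 := (mul_eq_zero.mp h1).resolve_left hpC
      rw [← h2]
      refine Finset.sum_congr rfl fun θ _ => ?_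
      push_cast
      ring

end Cfsg.Agent.Lib.BF
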