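import Mathlib
import Cfsg.Agent.Lib.Helper25.ChevOrbData
import Cfsg.Agent.Lib.Helper25.ChevW0
import Cfsg.Agent.Lib.Helper25.ChevLTData
import Cfsg.Agent.Lib.Helper25.InvChevDefs

/-!
# S2175/S2174, piece CX (for helper25): `inv_chev_nprod`

In characteristic two: `n_r(1) = x_r(1) x_{-r}(1) x_r(1) = x_{-r}(1) x_r(1) x_{-r}(1)`, all of
order two, and for pairwise commuting roots
`∏ n_b(1) * ∏ x_{-b}(1) = ∏ x_{-b}(1) * ∏ x_b(1)`.
-/

set_option autoImplicit false

namespace Cfsg.Agent.Lib.Helper25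

open Cfsg Cfsg.Lie Matrix
open Cfsg.Agent.Lib.Helper8 Cfsg.Agent.Lib.Helper24

section

variable {F : Type*} [Field F]

theorem cx_sign [CharP F 2] (z : ℤ) (hz : z = 1 ∨ z = -1) : ((z : ℤ) : F) = 1 := by
  rcases hz with rfl | rfl
  · exact Int.cast_one
  · rw [Int.cast_neg, Int.cast_one, CharTwo.neg_eq]

theorem cx_a [CharP F 2] (D : ChevalleyDatum)
    (hD : D ∈ [chevG2, chevB2, chevD4, chevF4, chevE6, chevE7, chevE8]) (r : ℕ)
    (hr : r < D.nroots) : D.x F r 1 * D.x F r 1 = 1 := by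
  have hD' : D ∈ chevList := hD
  rw [x_add D hD' r hr, CharTwo.add_self_eq_zero, Cfsg.Agent.Lib.Helper24.x_zero]

theorem cx_b [CharP F 2] (D : ChevalleyDatum) (r : ℕ) :
    D.nMat F r 1 = D.x F r 1 * (D.x F (D.neg r) 1 * D.x F r 1) := by
  rw [nMat_eq_x, inv_one, CharTwo.neg_eq]

theorem cx_nsq [CharP F 2] (D : ChevalleyDatum)
    (hD : D ∈ [chevG2, chevB2, chevD4, chevF4, chevE6, chevE7, chevE8]) (r : ℕ)
    (hr : r < D.nroots) : D.nMat F r 1 * D.nMat F r 1 = 1 := by
  have h := nMat_mul_neg_one (F := F) D hD r hr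
  rwa [CharTwo.neg_eq] at h

theorem cx_cancel (D : ChevalleyDatum) (g : GL D.Idx F) (A B : Matrix D.Idx D.Idx F)
    (h : A * g.1 = B * g.1) : A = B := by
  have h1 := congrArg (fun M => M * (g⁻¹ : GL D.Idx F).1) h
  simp only [Matrix.mul_assoc] at h1
  rw [← Units.val_mul, mul_inv_cancel, Units.val_one, Matrix.mul_one, Matrix.mul_one] at h1
  exact h1

theorem cx_c_simple [CharP F 2] (D : ChevalleyDatum)
    (hD : D ∈ [chevG2, chevB2, chevD4, chevF4, chevE6, chevE7, chevE8]) (i : ℕ)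
    (hi : i < D.rank) : D.nMat F (D.neg (D.simple i)) 1 = D.nMat F (D.simple i) 1 := by
  have hD' : D ∈ chevList := hD
  have hp := simple_lt D hD' i hi
  have h := nWordMat_mul_nMat (F := F) D hD [i]
    (by intro j hj; rw [List.mem_singleton] at hj; rw [hj]; exact hi) (D.simple i) hp 1
  have hrefl : wPi D [i] (D.simple i) = D.neg (D.simple i) := by
    show D.reflectRoot i (D.simple i) = _
    unfold ChevalleyDatum.reflectRoot
    simp
  have hW : nWordMat F D [i] = D.nMat F (D.simple i) 1 := by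
    unfold nWordMat
    rw [List.map_cons, List.map_nil, List.prod_cons, List.prod_nil, mul_one]
  rw [hrefl, cx_sign _ (wEta_cases D [i] (D.simple i)), one_mul, hW, cx_nsq D hD _ hp] at h
  have h2 : D.nMat F (D.neg (D.simple i)) 1 = D.nMat F (D.neg (D.simple i)) 1 *
      (D.nMat F (D.simple i) 1 * D.nMat F (D.simple i) 1) := by
    rw [cx_nsq D hD _ hp, Matrix.mul_one]
  rw [h2, ← Matrix.mul_assoc, ← h, Matrix.one_mul]

theorem cx_c [CharP F 2] (D : ChevalleyDatum)
    (hD : D ∈ [chevG2, chevB2, chevD4, chevF4, chevE6, chevE7, chevE8]) (r : ℕ)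
    (hr : r < D.nroots) : D.nMat F (D.neg r) 1 = D.nMat F r 1 := by
  have hD' : D ∈ chevList := hD
  obtain ⟨i, hi, L, hL, hw, -⟩ := orb_all D hD r hr
  have hp := simple_lt D hD' i hi
  have hnp : D.neg (D.simple i) < D.nroots := neg_lt_of_preChk D (preChk_of_mem D hD') _ hp
  have h1 := nWordMat_mul_nMat (F := F) D hD L hL (D.simple i) hp 1
  have h2 := nWordMat_mul_nMat (F := F) D hD L hL (D.neg (D.simple i)) hnp 1
  rw [cx_sign _ (wEta_cases D L _), one_mul, hw] at h1
  rw [cx_sign _ (wEta_cases D L _), one_mul, wPi_neg D hD L hL _ hp, hw,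
    cx_c_simple D hD i hi, h1] at h2
  obtain ⟨g, hg, -⟩ := exists_nWordGL (F := F) D hD L hL
  rw [← hg] at h2
  exact (cx_cancel D g _ _ h2).symm

theorem cx_d [CharP F 2] (D : ChevalleyDatum)
    (hD : D ∈ [chevG2, chevB2, chevD4, chevF4, chevE6, chevE7, chevE8]) (r : ℕ)
    (hr : r < D.nroots) :
    D.nMat F r 1 = D.x F (D.neg r) 1 * (D.x F r 1 * D.x F (D.neg r) 1) := by
  rw [← cx_c D hD r hr, cx_b D (D.neg r), (ltData_all D hD).neg_neg r hr]

theorem cx_key [CharP F 2] (D : ChevalleyDatum)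
    (hD : D ∈ [chevG2, chevB2, chevD4, chevF4, chevE6, chevE7, chevE8]) (b : ℕ)
    (hb : b < D.nroots) :
    D.nMat F b 1 * D.x F (D.neg b) 1 = D.x F (D.neg b) 1 * D.x F b 1 := by
  have hD' : D ∈ chevList := hD
  have hnb : D.neg b < D.nroots := neg_lt_of_preChk D (preChk_of_mem D hD') b hb
  rw [cx_d D hD b hb, Matrix.mul_assoc, Matrix.mul_assoc, cx_a D hD _ hnb, Matrix.mul_one]

theorem cx_step {M : Type*} [Monoid M] (X Y Nb n' x' y' : M)
    (hkey : Nb * Y = Y * X) (hNN : Nb * Nb = 1) (hXX : X * X = 1)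
    (hYn : Commute Y n') (hXy : Commute X y') (hNn : Commute Nb n') (hXx : Commute X x')
    (ih1 : n' * y' = y' * x') (ih2 : n' * n' = 1) (ih3 : x' * x' = 1) :
    (Nb * n') * (Y * y') = (Y * y') * (X * x') ∧ (Nb * n') * (Nb * n') = 1 ∧
      (X * x') * (X * x') = 1 := by
  refine ⟨?_, ?_, ?_⟩
  · calc (Nb * n') * (Y * y') = Nb * (n' * Y) * y' := by simp only [mul_assoc]
      _ = Nb * (Y * n') * y' := by rw [hYn.eq]
      _ = (Nb * Y) * (n' * y') := by simp only [mul_assoc]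
      _ = (Y * X) * (y' * x') := by rw [hkey, ih1]
      _ = Y * (X * y') * x' := by simp only [mul_assoc]
      _ = Y * (y' * X) * x' := by rw [hXy.eq]
      _ = (Y * y') * (X * x') := by simp only [mul_assoc]
  · calc (Nb * n') * (Nb * n') = Nb * (n' * Nb) * n' := by simp only [mul_assoc]
      _ = Nb * (Nb * n') * n' := by rw [hNn.eq]
      _ = (Nb * Nb) * (n' * n') := by simp only [mul_assoc]
      _ = 1 := by rw [hNN, ih2, mul_one]
  · calc (X * x') * (X * x') = X * (x' * X) * x' := by simp only [mul_assoc]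
      _ = X * (X * x') * x' := by rw [hXx.eq]
      _ = (X * X) * (x' * x') := by simp only [mul_assoc]
      _ = 1 := by rw [hXX, ih3, mul_one]

/-- CX -/
theorem inv_chev_nprod [CharP F 2] (D : ChevalleyDatum)
    (hD : D ∈ [chevG2, chevB2, chevD4, chevF4, chevE6, chevE7, chevE8])
    (Bs : List ℕ) (hB : ∀ b ∈ Bs, b < D.nroots) (hnd : Bs.Nodup)
    (hcomm : ∀ b ∈ Bs, ∀ b' ∈ Bs, b ≠ b' → ∀ r ∈ [b, D.neg b], ∀ r' ∈ [b', D.neg b'],
      D.x F r 1 * D.x F r' 1 = D.x F r' 1 * D.x F r 1) :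
    nProd F D Bs * xProd F D (Bs.map D.neg) = xProd F D (Bs.map D.neg) * xProd F D Bs ∧
    nProd F D Bs * nProd F D Bs = 1 ∧ xProd F D Bs * xProd F D Bs = 1 := by
  induction Bs with
  | nil =>
    unfold nProd xProd
    simp
  | cons b Bs ih =>
    have hb : b < D.nroots := hB b (by simp)
    have hB' : ∀ b' ∈ Bs, b' < D.nroots := fun b' h => hB b' (by simp [h])
    obtain ⟨hbn, hnd'⟩ := List.nodup_cons.mp hnd
    have hcomm' : ∀ c ∈ Bs, ∀ c' ∈ Bs, c ≠ c' → ∀ r ∈ [c, D.neg c], ∀ r' ∈ [c', D.neg c'],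
        D.x F r 1 * D.x F r' 1 = D.x F r' 1 * D.x F r 1 :=
      fun c hc c' hc' hne => hcomm c (by simp [hc]) c' (by simp [hc']) hne
    obtain ⟨ih1, ih2, ih3⟩ := ih hB' hnd' hcomm'
    have hc : ∀ r ∈ [b, D.neg b], ∀ b' ∈ Bs, ∀ r' ∈ [b', D.neg b'],
        Commute (D.x F r 1) (D.x F r' 1) := by
      intro r hr b' hb' r' hr'
      exact hcomm b (by simp) b' (by simp [hb']) (fun h => hbn (h ▸ hb')) r hr r' hr'
    have hcx : ∀ r ∈ [b, D.neg b], Commute (D.x F r 1) (xProd F D Bs) := by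
      intro r hr
      unfold xProd
      apply Commute.list_prod_right
      intro m hm
      obtain ⟨b', hb', rfl⟩ := List.mem_map.mp hm
      exact hc r hr b' hb' b' (by simp)
    have hcy : ∀ r ∈ [b, D.neg b], Commute (D.x F r 1) (xProd F D (Bs.map D.neg)) := by
      intro r hr
      unfold xProd
      apply Commute.list_prod_right
      intro m hm
      obtain ⟨c, hc', rfl⟩ := List.mem_map.mp hm
      obtain ⟨b', hb', rfl⟩ := List.mem_map.mp hc'
      exact hc r hr b' hb' (D.neg b') (by simp)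
    have hcn : ∀ r ∈ [b, D.neg b], Commute (D.x F r 1) (nProd F D Bs) := by
      intro r hr
      unfold nProd
      apply Commute.list_prod_right
      intro m hm
      obtain ⟨b', hb', rfl⟩ := List.mem_map.mp hm
      rw [cx_b D b']
      exact (hc r hr b' hb' b' (by simp)).mul_right
        ((hc r hr b' hb' (D.neg b') (by simp)).mul_right (hc r hr b' hb' b' (by simp)))
    have hNn : Commute (D.nMat F b 1) (nProd F D Bs) := by
      rw [cx_b D b]
      exact (hcn b (by simp)).mul_left ((hcn (D.neg b) (by simp)).mul_left (hcn b (by simp)))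
    have h := cx_step (D.x F b 1) (D.x F (D.neg b) 1) (D.nMat F b 1) (nProd F D Bs)
      (xProd F D Bs) (xProd F D (Bs.map D.neg))
      (cx_key D hD b hb) (cx_nsq D hD b hb) (cx_a D hD b hb) (hcn (D.neg b) (by simp))
      (hcy b (by simp)) hNn (hcx b (by simp)) ih1 ih2 ih3
    have e1 : nProd F D (b :: Bs) = D.nMat F b 1 * nProd F D Bs := by
      unfold nProd; rw [List.map_cons, List.prod_cons]
    have e2 : xProd F D (b :: Bs) = D.x F b 1 * xProd F D Bs := by
      unfold xProd; rw [List.map_cons, List.prod_cons]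
    have e3 : xProd F D ((b :: Bs).map D.neg)
        = D.x F (D.neg b) 1 * xProd F D (Bs.map D.neg) := by
      unfold xProd; rw [List.map_cons, List.map_cons, List.prod_cons]
    rw [e1, e2, e3]
    exact h

end

end Cfsg.Agent.Lib.Helper25
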