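import Mathlib
import Cfsg.Agent.Lib.Helper25.InvDefs
import Cfsg.Agent.Lib.Helper19.InvID

/-!
# S2175/S2174, piece IG (for helper25): `inv_closure_conj`

Closure induction of `inv_conj_ascent` (piece ID) over the subgroup generated by the left ascents
of `w = cl n` that commute with `w`.
-/

set_option autoImplicit false

namespace Cfsg.Agent.Lib.Helper25

open Cfsg Cfsg.Agent.Lib.Helper8

section Abstract

variable {G : Type*} [Group G]

/-- The property proved by closure induction in `inv_closure_conj`. -/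
def ig_Q (P : BNPair G) (U : Subgroup G) (t : G) (n : P.N) (m : G) : Prop :=
  ∀ (g u : G) (n' : P.N), cl P n' = cl P n → u ∈ U → g * t * g⁻¹ = u * (n' : G) →
    m * u * m⁻¹ ∈ U ∧ ∃ n'' : P.N, (n'' : G) = m * (n' : G) * m⁻¹ ∧ cl P n'' = cl P n

theorem ig_one (P : BNPair G) (U : Subgroup G) (t : G) (n : P.N) : ig_Q P U t n 1 := by
  intro g u n' hn' hu _
  refine ⟨by rw [one_mul, inv_one, mul_one]; exact hu, n', ?_, hn'⟩
  rw [one_mul, inv_one, mul_one]

theorem ig_mul (P : BNPair G) (U : Subgroup G) (t : G) (n : P.N) (a b : G)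
    (ha : ig_Q P U t n a) (hb : ig_Q P U t n b) : ig_Q P U t n (a * b) := by
  intro g u n' hn' hu hg
  obtain ⟨hu₂, n₂, hn₂, hcl₂⟩ := hb g u n' hn' hu hg
  have hg₂ : (b * g) * t * (b * g)⁻¹ = (b * u * b⁻¹) * (n₂ : G) := by
    have h1 : (b * g) * t * (b * g)⁻¹ = b * (g * t * g⁻¹) * b⁻¹ := by group
    rw [h1, hg, hn₂]
    group
  obtain ⟨hu₃, n₃, hn₃, hcl₃⟩ := ha (b * g) (b * u * b⁻¹) n₂ hcl₂ hu₂ hg₂
  refine ⟨?_, n₃, ?_, hcl₃⟩
  · have h1 : a * b * u * (a * b)⁻¹ = a * (b * u * b⁻¹) * a⁻¹ := by group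
    rw [h1]; exact hu₃
  · rw [hn₃, hn₂]
    group

theorem ig_pow (P : BNPair G) (U : Subgroup G) (t : G) (n : P.N) (a : G)
    (ha : ig_Q P U t n a) (k : ℕ) : ig_Q P U t n (a ^ k) := by
  induction k with
  | zero => rw [pow_zero]; exact ig_one P U t n
  | succ k ih => rw [pow_succ]; exact ig_mul P U t n _ _ ih ha

theorem ig_inv [Finite G] (P : BNPair G) (U : Subgroup G) (t : G) (n : P.N) (a : G)
    (ha : ig_Q P U t n a) : ig_Q P U t n a⁻¹ := by
  have h1 : a⁻¹ = a ^ (orderOf a - 1) := by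
    apply inv_eq_of_mul_eq_one_right
    have h2 : 0 < orderOf a := orderOf_pos a
    have h3 : a * a ^ (orderOf a - 1) = a ^ (orderOf a - 1 + 1) := (pow_succ' a _).symm
    rw [h3, Nat.sub_add_cancel h2, pow_orderOf_eq_one]
  rw [h1]
  exact ig_pow P U t n a ha _

theorem ig_gen (P : BNPair G) (U : Subgroup G) (hUB : U ≤ P.B)
    (hUc : ∀ u ∈ U, ∀ g : G, g * u * g⁻¹ ∈ P.B → g * u * g⁻¹ ∈ U)
    (t : G) (n : P.N) (hmax : MaxCell P t n)
    (hcomm : ∀ (σ : G) (hσ : σ ∈ P.S),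
      len (SW P) (cl P n) < len (SW P) (cl P (sN P hσ) * cl P n) →
      cl P (sN P hσ) * cl P n = cl P n * cl P (sN P hσ))
    (σ : G) (hσA : σ ∈ AscSet P (cl P n)) : ig_Q P U t n σ := by
  obtain ⟨hσ, hasc⟩ := hσA
  intro g u n' hn' hu hg
  have hmax' : MaxCell P t n' := by
    intro g₂ n₂ h₂
    rw [hn']
    exact hmax g₂ n₂ h₂
  have hc := hcomm σ hσ hasc
  refine ⟨inv_conj_ascent P U hUB hUc t n' hmax' g u hu hg σ hσ (by rw [hn']; exact hasc)
    (by rw [hn']; exact hc), sN P hσ * n' * (sN P hσ)⁻¹, rfl, ?_⟩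
  rw [cl_mul, cl_mul, cl_inv, hn', hc, mul_inv_cancel_right]

/-- IG -/
theorem inv_closure_conj [Finite G] (P : BNPair G) (U : Subgroup G) (hUB : U ≤ P.B)
    (hUc : ∀ u ∈ U, ∀ g : G, g * u * g⁻¹ ∈ P.B → g * u * g⁻¹ ∈ U)
    (t : G) (n : P.N) (hmax : MaxCell P t n)
    (hcomm : ∀ (σ : G) (hσ : σ ∈ P.S),
      len (SW P) (cl P n) < len (SW P) (cl P (sN P hσ) * cl P n) →
      cl P (sN P hσ) * cl P n = cl P n * cl P (sN P hσ))
    (m : G) (hm : m ∈ Subgroup.closure (AscSet P (cl P n)))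
    (g u : G) (n' : P.N) (hn' : cl P n' = cl P n) (hu : u ∈ U)
    (hg : g * t * g⁻¹ = u * (n' : G)) :
    m * u * m⁻¹ ∈ U ∧ ∃ n'' : P.N, (n'' : G) = m * (n' : G) * m⁻¹ ∧ cl P n'' = cl P n := by
  have key : ig_Q P U t n m := by
    induction hm using Subgroup.closure_induction with
    | mem σ hσ => exact ig_gen P U hUB hUc t n hmax hcomm σ hσ
    | one => exact ig_one P U t n
    | mul a b _ _ iha ihb => exact ig_mul P U t n a b iha ihb
    | inv a _ iha => exact ig_inv P U t n a iha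
  exact key g u n' hn' hu hg

end Abstract

end Cfsg.Agent.Lib.Helper25
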