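import Mathlib
import Cfsg.Prelude.Def_LocalEven
import Cfsg.Prelude.Def_Transfer
import Cfsg.Prelude.Def_Solvable
import Cfsg.Agent.Lib.Helper12.Subnormal
import Cfsg.Agent.Lib.Helper41.Cores
import Cfsg.Agent.Lib.Helper55.PClosed
import Cfsg.Agent.Lib.Helper56.PRes
import Cfsg.Agent.Lib.Helper57.PCore
import Cfsg.Agent.Lib.Helper66.InvSylow

/-!
# p-minimal groups (helper57)

`P` is `p`-minimal (`Cfsg.IsPMinimal p P`): a Sylow `p`-subgroup `S` is not normal and lies in a
unique maximal subgroup `M`.  Basic structure: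

* `pmin_le_of_sylow_le`: every proper subgroup containing `S` lies in `M`;
* `pmin_normal_dichotomy`: a normal subgroup contains `O^p(P)` or lies in the core of `M`;
* `pmin_pResidual_not_le`: `O^p(P) ≰ M`;
* `pmin_sylow_inf_normal`: for `N ⊴ P`, `N ≤ M`, `S ⊓ N ⊴ P`;
* `subnormal_le_core_of_coatom`: subnormal subgroups inside a maximal subgroup `M` lie in its core;
* `pmin_two_primes`: if `Q ⊴ P`, `Q ≤ S` and `p ∤ |O^p(P) : Q ∩ O^p(P)|` then `|P|` has at most
  two prime divisors.
-/

set_option autoImplicit false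

namespace Cfsg.Agent.Lib.Helper57

open Cfsg

section
variable {P : Type*} [Group P] [Finite P] {p : ℕ} [Fact p.Prime]

omit [Fact p.Prime] in
/-- every proper subgroup containing `S` lies in `M` -/
theorem pmin_le_of_sylow_le (hP : IsPMinimal p P) (S : Sylow p P) {M : Subgroup P}
    (hM : IsCoatom M) (hSM : (S : Subgroup P) ≤ M) {H : Subgroup P}
    (hSH : (S : Subgroup P) ≤ H) (hH : H ≠ ⊤) : H ≤ M := by
  obtain ⟨M', hM', hHM'⟩ := (eq_top_or_exists_le_coatom H).resolve_left hH
  have := (hP S).2.unique ⟨hM', hSH.trans hHM'⟩ ⟨hM, hSM⟩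
  rw [← this]; exact hHM'

/-- a normal subgroup contains `O^p(P)` or lies in the core of `M` -/
theorem pmin_normal_dichotomy (hP : IsPMinimal p P) (S : Sylow p P) {M : Subgroup P}
    (hM : IsCoatom M) (hSM : (S : Subgroup P) ≤ M) (N : Subgroup P) (hN : N.Normal) :
    pResidual p P ≤ N ∨ N ≤ M.normalCore := by
  have := hN
  by_cases h : N ⊔ (S : Subgroup P) = ⊤
  · left
    exact Cfsg.Agent.Lib.Helper55.pResidual_le_of_le_sup N (S : Subgroup P) S.2
      (by rw [h]; exact le_top)
  · right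
    have h1 := pmin_le_of_sylow_le hP S hM hSM le_sup_right h
    exact Subgroup.normal_le_normalCore.mpr (le_sup_left.trans h1)

theorem pmin_pResidual_not_le (S : Sylow p P) {M : Subgroup P}
    (hM : IsCoatom M) (hSM : (S : Subgroup P) ≤ M) : ¬ pResidual p P ≤ M := by
  intro h
  have h1 : (S : Subgroup P) ⊔ pResidual p P = ⊤ :=
    Cfsg.Agent.Lib.Helper56.sylow_sup_pResidual p S
  exact hM.1 (top_le_iff.mp (h1 ▸ sup_le hSM h))

omit [Finite P] [Fact p.Prime] in
theorem sylow_le_normalizer_inf_normal (S : Sylow p P) (N : Subgroup P) [hN : N.Normal] :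
    (S : Subgroup P) ≤ Subgroup.normalizer (((S : Subgroup P) ⊓ N : Subgroup P) : Set P) := by
  intro s hs
  rw [Subgroup.mem_normalizer_iff]
  intro x
  constructor
  · rintro ⟨hxS, hxN⟩
    exact ⟨(S : Subgroup P).mul_mem ((S : Subgroup P).mul_mem hs hxS) ((S : Subgroup P).inv_mem hs),
      hN.conj_mem x hxN s⟩
  · rintro ⟨hxS, hxN⟩
    refine ⟨?_, ?_⟩
    · have h := (S : Subgroup P).mul_mem ((S : Subgroup P).mul_mem ((S : Subgroup P).inv_mem hs) hxS) hs
      have e : s⁻¹ * (s * x * s⁻¹) * s = x := by group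
      rw [e] at h; exact h
    · have h := hN.conj_mem _ hxN s⁻¹
      have e : s⁻¹ * (s * x * s⁻¹) * s⁻¹⁻¹ = x := by group
      rw [e] at h; exact h

/-- normal subgroups inside `M` meet `S` in a normal subgroup of `P` -/
theorem pmin_sylow_inf_normal (hP : IsPMinimal p P) (S : Sylow p P) {M : Subgroup P}
    (hM : IsCoatom M) (hSM : (S : Subgroup P) ≤ M) (N : Subgroup P) [N.Normal] (hNM : N ≤ M) :
    ((S : Subgroup P) ⊓ N).Normal := by
  have h1 := Cfsg.Agent.Lib.Helper41.frattini_inf S N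
  have h2 := sylow_le_normalizer_inf_normal S N
  by_contra hn
  have h3 : Subgroup.normalizer (((S : Subgroup P) ⊓ N : Subgroup P) : Set P) ≠ ⊤ := by
    intro h; exact hn (Subgroup.normalizer_eq_top_iff.mp h)
  have h4 := pmin_le_of_sylow_le hP S hM hSM h2 h3
  exact hM.1 (top_le_iff.mp (h1 ▸ sup_le h4 hNM))

theorem pmin_sylow_inf_normal_le_pCore (hP : IsPMinimal p P) (S : Sylow p P) {M : Subgroup P}
    (hM : IsCoatom M) (hSM : (S : Subgroup P) ≤ M) (N : Subgroup P) [N.Normal] (hNM : N ≤ M) :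
    (S : Subgroup P) ⊓ N ≤ pCore p P :=
  le_pCore (pmin_sylow_inf_normal hP S hM hSM N hNM) (S.2.to_le inf_le_left)

omit [Fact p.Prime] in
/-- subnormal subgroups inside a maximal subgroup `M` lie in the core of `M` -/
theorem subnormal_le_core_of_coatom {M : Subgroup P}
    (hM : IsCoatom M) (N : Subgroup P)
    (hN : N.IsSubnormal) (hNM : N ≤ M) : N ≤ M.normalCore := by
  set 𝒯 : Set (Subgroup P) := {L | L.IsSubnormal ∧ L ≤ M} with h𝒯
  set L₀ := sSup 𝒯 with hL₀
  have h1 : L₀.IsSubnormal := Cfsg.Agent.Lib.Helper12.isSubnormal_sSup 𝒯 (fun U hU => hU.1)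
  have h2 : L₀ ≤ M := sSup_le (fun U hU => hU.2)
  have h3 : M ≤ Subgroup.normalizer (L₀ : Set P) := by
    intro m hm
    apply Subgroup.mem_normalizer_fintype
    intro y hy
    have hle : L₀ ≤ L₀.comap (MulAut.conj m).toMonoidHom := by
      apply sSup_le
      intro U hU
      rw [← Subgroup.map_le_iff_le_comap]
      apply le_sSup
      refine ⟨hU.1.map (MulAut.conj m).surjective, ?_⟩
      rintro _ ⟨u, hu, rfl⟩
      exact M.mul_mem (M.mul_mem hm (hU.2 hu)) (M.inv_mem hm)
    have := hle hy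
    simpa using this
  have h4 : L₀.Normal := by
    by_contra hn
    have h5 : Subgroup.normalizer (L₀ : Set P) = M := by
      by_contra hne
      have hlt : M < Subgroup.normalizer (L₀ : Set P) := lt_of_le_of_ne h3 (Ne.symm hne)
      exact hn (Subgroup.normalizer_eq_top_iff.mp (hM.2 _ hlt))
    have hne : L₀ ≠ ⊤ := fun h => hM.1 (top_le_iff.mp (h ▸ h2))
    rcases Subgroup.IsSubnormal.iff_eq_top_or_exists.mp h1 with h | ⟨K, hLK, hK, hKn⟩
    · exact hne h
    · have hK2 : K ≤ Subgroup.normalizer (L₀ : Set P) :=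
        (Subgroup.normal_subgroupOf_iff_le_normalizer hLK.le).mp hKn
      have : K ≤ L₀ := le_sSup (show K ∈ 𝒯 from ⟨hK, h5 ▸ hK2⟩)
      exact (lt_irrefl _ (lt_of_lt_of_le hLK this))
  have hNL : N ≤ L₀ := le_sSup (show N ∈ 𝒯 from ⟨hN, hNM⟩)
  exact hNL.trans ((Subgroup.normal_le_normalCore (hN := h4)).mpr h2)

end

/-- a subgroup containing a Sylow `r`-subgroup of `K` for every prime `r` contains `K` -/
theorem le_of_forall_sylow_le {G : Type*} [Group G] [Finite G] (H K : Subgroup G)
    (h : ∀ (r : ℕ) [Fact r.Prime], ∃ R : Sylow r ↥K, (R : Subgroup ↥K).map K.subtype ≤ H) :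
    K ≤ H := by
  have hdvd : Nat.card K ∣ Nat.card (H ⊓ K : Subgroup G) := by
    rw [← Nat.factorization_prime_le_iff_dvd Nat.card_pos.ne' Nat.card_pos.ne']
    intro r hr
    have : Fact r.Prime := ⟨hr⟩
    obtain ⟨R, hR⟩ := h r
    have h1 : Nat.card ((R : Subgroup ↥K).map K.subtype) = r ^ (Nat.card K).factorization r := by
      rw [Subgroup.card_map_of_injective K.subtype_injective]
      exact R.card_eq_multiplicity
    have h2 : (R : Subgroup ↥K).map K.subtype ≤ H ⊓ K := le_inf hR (Subgroup.map_subtype_le _)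
    have h3 := Subgroup.card_dvd_of_le h2
    rw [h1] at h3
    exact (hr.pow_dvd_iff_le_factorization Nat.card_pos.ne').mp h3
  have := Subgroup.eq_of_le_of_card_ge (inf_le_right : H ⊓ K ≤ K)
    (Nat.le_of_dvd Nat.card_pos hdvd)
  rw [← this]; exact inf_le_left

section
variable {P : Type*} [Group P] [Finite P] {p : ℕ} [Fact p.Prime]

/-- if `O^p(P)` is `p`-closed modulo the normal `p`-subgroup `Q ≤ S` then `|P|` has at most two
prime divisors -/
theorem pmin_two_primes (hP : IsPMinimal p P) (S : Sylow p P) {M : Subgroup P}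
    (hM : IsCoatom M) (hSM : (S : Subgroup P) ≤ M)
    (Q : Subgroup P) [hQ : Q.Normal] (hQS : Q ≤ (S : Subgroup P))
    (hQO : ¬ p ∣ Q.relIndex (pResidual p P)) :
    (Nat.card P).primeFactors.card ≤ 2 := by
  classical
  have hp := (Fact.out : p.Prime)
  by_contra hcard
  set π := QuotientGroup.mk' Q with hπ
  have hπs : Function.Surjective π := QuotientGroup.mk'_surjective Q
  have hker : π.ker = Q := QuotientGroup.ker_mk' Q
  set O := pResidual p P with hO
  have hOn : O.Normal := Cfsg.Agent.Lib.Helper56.pResidual_normal p P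
  set N := O.map π with hN
  have hNn : N.Normal := hOn.map π hπs
  have hpN : ¬ p ∣ Nat.card N := by
    rw [hN, ← Subgroup.relIndex_ker, hker]; exact hQO
  set Sb := (S : Subgroup P).map π with hSb
  have hSbp : IsPGroup p Sb := S.2.map π
  set Mb := M.map π with hMb
  have claim : ∀ (r : ℕ) [Fact r.Prime],
      ∃ R : Sylow r ↥N, (R : Subgroup ↥N).map N.subtype ≤ Mb := by
    intro r hr
    obtain ⟨R, hR⟩ := Cfsg.Agent.Lib.Helper66.exists_invariant_sylow hSbp N hpN r
    refine ⟨R, ?_⟩
    set Rb := (R : Subgroup ↥N).map N.subtype with hRb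
    have hR' : Sb ≤ Subgroup.normalizer (Rb : Set (P ⧸ Q)) := hR
    set X := (Sb ⊔ Rb).comap π with hX
    have hSX : (S : Subgroup P) ≤ X := by
      rw [hX, ← Subgroup.map_le_iff_le_comap]; exact le_sup_left
    by_cases hXt : X = ⊤
    · exfalso
      have hsup : Sb ⊔ Rb = ⊤ := by
        have h0 := Subgroup.map_comap_eq_self_of_surjective hπs (Sb ⊔ Rb)
        rw [← hX, hXt, Subgroup.map_top_of_surjective π hπs] at h0
        exact h0.symm
      have hRbn : Rb.Normal := by
        rw [← Subgroup.normalizer_eq_top_iff]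
        apply top_unique
        rw [← hsup]
        exact sup_le hR' Subgroup.le_normalizer
      apply hcard
      have hsub : (Nat.card P).primeFactors ⊆ {p, r} := by
        intro q hq
        have hqp : q.Prime := Nat.prime_of_mem_primeFactors hq
        have hqd : q ∣ Nat.card P := Nat.dvd_of_mem_primeFactors hq
        have : Fact q.Prime := ⟨hqp⟩
        obtain ⟨g, hg⟩ := exists_prime_orderOf_dvd_card' q hqd
        have hmem : π g ∈ Sb ⊔ Rb := by rw [hsup]; trivial
        obtain ⟨s, hs, ρ, hρ, hsρ⟩ := Subgroup.mem_sup_of_normal_right.mp hmem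
        obtain ⟨k, hk⟩ := hSbp ⟨s, hs⟩
        have hk' : s ^ p ^ k = 1 := by simpa using congrArg Subtype.val hk
        have h1 : (π g) ^ p ^ k ∈ Rb := by
          rw [← QuotientGroup.eq_one_iff (N := Rb), QuotientGroup.mk_pow, ← hsρ,
            QuotientGroup.mk_mul, (QuotientGroup.eq_one_iff ρ).mpr hρ, mul_one,
            ← QuotientGroup.mk_pow, hk', QuotientGroup.mk_one]
        have hRbr : IsPGroup r Rb := R.2.map N.subtype
        obtain ⟨j, hj⟩ := hRbr ⟨_, h1⟩
        have hj' : ((π g) ^ p ^ k) ^ r ^ j = 1 := by simpa using congrArg Subtype.val hj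
        have h2 : g ^ (p ^ k * r ^ j) ∈ Q := by
          rw [← hker, MonoidHom.mem_ker, map_pow, pow_mul]; exact hj'
        obtain ⟨l, hl⟩ := (S.2.to_le hQS) ⟨_, h2⟩
        have hl' : (g ^ (p ^ k * r ^ j)) ^ p ^ l = 1 := by simpa using congrArg Subtype.val hl
        have h3 : q ∣ p ^ k * r ^ j * p ^ l := by
          rw [← hg]; apply orderOf_dvd_of_pow_eq_one; rw [pow_mul]; exact hl'
        have h4 : q ∣ p ∨ q ∣ r := by
          rcases (Nat.Prime.dvd_mul hqp).mp h3 with h | h
          · rcases (Nat.Prime.dvd_mul hqp).mp h with h | h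
            · exact Or.inl (hqp.dvd_of_dvd_pow h)
            · exact Or.inr (hqp.dvd_of_dvd_pow h)
          · exact Or.inl (hqp.dvd_of_dvd_pow h)
        rcases h4 with h | h
        · have := (Nat.prime_dvd_prime_iff_eq hqp hp).mp h; simp [this]
        · have := (Nat.prime_dvd_prime_iff_eq hqp hr.out).mp h; simp [this]
      calc (Nat.card P).primeFactors.card ≤ ({p, r} : Finset ℕ).card := Finset.card_le_card hsub
        _ ≤ 2 := Finset.card_le_two
    · have hXM := pmin_le_of_sylow_le hP S hM hSM hSX hXt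
      calc Rb ≤ Sb ⊔ Rb := le_sup_right
        _ = X.map π := (Subgroup.map_comap_eq_self_of_surjective hπs _).symm
        _ ≤ Mb := Subgroup.map_mono hXM
  have hNM : N ≤ Mb := le_of_forall_sylow_le Mb N claim
  have hSM' : Sb ≤ Mb := Subgroup.map_mono hSM
  have htop : Mb = ⊤ := by
    apply top_unique
    have h1 : (S : Subgroup P) ⊔ O = ⊤ := Cfsg.Agent.Lib.Helper56.sylow_sup_pResidual p S
    have h2 : Sb ⊔ N = ⊤ := by
      rw [hSb, hN, ← Subgroup.map_sup, h1]; exact Subgroup.map_top_of_surjective π hπs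
    rw [← h2]; exact sup_le hSM' hNM
  have h5 : M ⊔ Q = ⊤ := by
    have := Subgroup.comap_map_eq π M
    rw [← hMb, htop, Subgroup.comap_top, hker] at this
    exact this.symm
  have h6 : M ⊔ Q = M := sup_eq_left.mpr (hQS.trans hSM)
  exact hM.1 (h6 ▸ h5)

end

end Cfsg.Agent.Lib.Helper57
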