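import Mathlib
import Cfsg.Agent.Lib.Helper7.Quat

/-!
# Recognition of `SL₂(3)` as `Q₈ ⋊ C₃` (helper57)

* `Q8C3 i j ρ`: the group `H` has order 24, `i` has order 4, `j * j = i * i`, `i * j = j * i⁻¹`,
  `ρ` has order 3 and `ρ i ρ⁻¹ = j`, `ρ j ρ⁻¹ = i j`.
* `Q8C3.mulEquiv`: two groups with such data are isomorphic.
* `sl23_data`: `SL₂(3)` has such data; `Q8C3.sl23`: a group with such data is `≃* SL₂(3)`.
-/

set_option autoImplicit false

namespace Cfsg.Agent.Lib.Helper57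

open QuaternionGroup

/-- the automorphism `i ↦ j ↦ ij ↦ i` of `Q₈` (with `i = a 1`, `j = xa 0`). -/
def q8sg : QuaternionGroup 2 → QuaternionGroup 2
  | a k => if k = 0 then a 0 else if k = 1 then xa 0 else if k = 2 then a 2 else xa 2
  | xa k => if k = 0 then xa 3 else if k = 1 then a 3 else if k = 2 then xa 1 else a 1

theorem q8sg_mul : ∀ p q : QuaternionGroup 2, q8sg (p * q) = q8sg p * q8sg q := by decide

theorem q8_pow_eight : ∀ q : QuaternionGroup 2, q ^ 8 = 1 := by decide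

theorem zmod4_cases : ∀ k : ZMod (2 * 2), k = 0 ∨ k = 1 ∨ k = 2 ∨ k = 3 := by decide

/-- data of a group `Q₈ ⋊ C₃ ≅ SL₂(3)`. -/
structure Q8C3 {H : Type*} [Group H] (i j ρ : H) : Prop where
  hi : orderOf i = 4
  hj : j * j = i * i
  hij : i * j = j * i⁻¹
  hρi : ρ * i * ρ⁻¹ = j
  hρj : ρ * j * ρ⁻¹ = i * j
  hρ : orderOf ρ = 3
  hcard : Nat.card H = 24

namespace Q8C3

variable {H : Type*} [Group H] {i j ρ : H} (h : Q8C3 i j ρ)
include h

theorem i4 : i ^ 4 = 1 := by rw [← h.hi]; exact pow_orderOf_eq_one i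

theorem ρ3 : ρ ^ 3 = 1 := by rw [← h.hρ]; exact pow_orderOf_eq_one ρ

theorem i_inv : i⁻¹ = i ^ 3 := by
  apply inv_eq_of_mul_eq_one_left
  rw [← pow_succ, h.i4]

/-- the embedding of `Q₈`. -/
def psi : QuaternionGroup 2 →* H :=
  Helper7.quatHom (n := 2) (by norm_num) i j (by simpa using h.i4) (by rw [h.hj, pow_two]) h.hij

theorem psi_a (k : ZMod (2 * 2)) : h.psi (a k) = i ^ k.val := rfl

theorem psi_xa (k : ZMod (2 * 2)) : h.psi (xa k) = j * i ^ k.val := rfl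

theorem psi_inj : Function.Injective h.psi :=
  Helper7.quatHom_injective (n := 2) (le_refl 2) i j h.hi (by rw [h.hj, pow_two]) h.hij

theorem j_sq : j ^ 2 = i ^ 2 := by rw [pow_two, pow_two, h.hj]

theorem conj_i_pow (m : ℕ) : ρ * i ^ m * ρ⁻¹ = j ^ m := by
  rw [← conj_pow, h.hρi]

theorem ij_eq : i * j = j * i ^ 3 := by rw [h.hij, h.i_inv]

theorem psi_conj (q : QuaternionGroup 2) : ρ * h.psi q * ρ⁻¹ = h.psi (q8sg q) := by
  rcases q with k | k
  · rw [h.psi_a, h.conj_i_pow]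
    rcases zmod4_cases k with rfl | rfl | rfl | rfl
    · show j ^ 0 = i ^ 0
      simp
    · show j ^ 1 = j * i ^ 0
      simp
    · show j ^ 2 = i ^ 2
      exact h.j_sq
    · show j ^ 3 = j * i ^ 2
      rw [← h.j_sq, pow_succ', pow_two]
  · rw [h.psi_xa]
    have e1 : ρ * (j * i ^ k.val) * ρ⁻¹ = (ρ * j * ρ⁻¹) * (ρ * i ^ k.val * ρ⁻¹) := by group
    rw [e1, h.hρj, h.conj_i_pow]
    rcases zmod4_cases k with rfl | rfl | rfl | rfl
    · show i * j * j ^ 0 = j * i ^ 3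
      rw [pow_zero, mul_one, h.ij_eq]
    · show i * j * j ^ 1 = i ^ 3
      rw [pow_one, mul_assoc, h.hj, ← pow_two, ← pow_succ']
    · show i * j * j ^ 2 = j * i ^ 1
      rw [h.j_sq, h.ij_eq, mul_assoc, ← pow_add, pow_one]
      have e2 : i ^ (3 + 2) = i := by
        rw [show 3 + 2 = 4 + 1 from rfl, pow_succ, h.i4, one_mul]
      rw [e2]
    · show i * j * j ^ 3 = i ^ 1
      rw [pow_one, mul_assoc, ← pow_succ']
      have e3 : j ^ (3 + 1) = 1 := by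
        rw [show 3 + 1 = 2 * 2 from rfl, pow_mul, h.j_sq, ← pow_mul]
        exact h.i4
      rw [e3, mul_one]

theorem psi_conj_iter (m : ℕ) (q : QuaternionGroup 2) :
    ρ ^ m * h.psi q * (ρ ^ m)⁻¹ = h.psi (q8sg^[m] q) := by
  induction m with
  | zero => simp
  | succ m ih =>
    have e1 : ρ ^ (m + 1) * h.psi q * (ρ ^ (m + 1))⁻¹ = ρ * (ρ ^ m * h.psi q * (ρ ^ m)⁻¹) * ρ⁻¹ := by
      rw [pow_succ']
      group
    rw [e1, ih, h.psi_conj, Function.iterate_succ_apply']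

/-- the parametrisation `(q, e) ↦ ψ(q) ρ^e`. -/
def Phi (p : QuaternionGroup 2 × ZMod 3) : H := h.psi p.1 * ρ ^ p.2.val

theorem pow_val_add (e e' : ZMod 3) : ρ ^ (e + e').val = ρ ^ e.val * ρ ^ e'.val := by
  rw [ZMod.val_add, ← pow_add, ← pow_eq_pow_mod _ h.ρ3]

end Q8C3

/-- the twisted product on `Q₈ × C₃`. -/
def q8tw (p p' : QuaternionGroup 2 × ZMod 3) : QuaternionGroup 2 × ZMod 3 :=
  (p.1 * q8sg^[p.2.val] p'.1, p.2 + p'.2)

namespace Q8C3

variable {H : Type*} [Group H] {i j ρ : H} (h : Q8C3 i j ρ)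
include h

theorem Phi_mul (p p' : QuaternionGroup 2 × ZMod 3) :
    h.Phi (q8tw p p') = h.Phi p * h.Phi p' := by
  unfold Phi q8tw
  simp only
  rw [map_mul, ← h.psi_conj_iter, h.pow_val_add]
  group

theorem Phi_inj : Function.Injective h.Phi := by
  rintro ⟨q, e⟩ ⟨q', e'⟩ heq
  unfold Phi at heq
  simp only at heq
  have h1 : h.psi (q'⁻¹ * q) = ρ ^ e'.val * (ρ ^ e.val)⁻¹ := by
    rw [map_mul, map_inv]
    have : h.psi q = h.psi q' * ρ ^ e'.val * (ρ ^ e.val)⁻¹ := by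
      rw [← heq]
      group
    rw [this]
    group
  have h8 : (h.psi (q'⁻¹ * q)) ^ 8 = 1 := by
    rw [← map_pow, q8_pow_eight, map_one]
  have h3 : (ρ ^ e'.val * (ρ ^ e.val)⁻¹) ^ 3 = 1 := by
    have e1 : ρ ^ e'.val * (ρ ^ e.val)⁻¹ = ρ ^ ((e'.val : ℤ) - (e.val : ℤ)) := by
      rw [zpow_sub, zpow_natCast, zpow_natCast]
    rw [e1, ← zpow_natCast, ← zpow_mul, mul_comm, zpow_mul, zpow_natCast, h.ρ3, one_zpow]
  rw [← h1] at h3
  have hone : h.psi (q'⁻¹ * q) = 1 := by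
    have e9 : (h.psi (q'⁻¹ * q)) ^ 9 = 1 := by
      rw [show 9 = 3 * 3 from rfl, pow_mul, h3, one_pow]
    rw [show 9 = 8 + 1 from rfl, pow_succ, h8, one_mul] at e9
    exact e9
  have hq : q = q' := by
    have := h.psi_inj (hone.trans (map_one _).symm)
    rw [inv_mul_eq_one] at this
    exact this.symm
  have hρe : ρ ^ e.val = ρ ^ e'.val := by
    rw [hone] at h1
    have := h1.symm
    rw [mul_inv_eq_one] at this
    exact this.symm
  have hval : e.val = e'.val := by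
    apply pow_injOn_Iio_orderOf (x := ρ)
    · rw [Set.mem_Iio, h.hρ]
      exact ZMod.val_lt e
    · rw [Set.mem_Iio, h.hρ]
      exact ZMod.val_lt e'
    · exact hρe
  rw [hq, ZMod.val_injective 3 hval]

theorem Phi_bij : Function.Bijective h.Phi := by
  have : Finite H := Nat.finite_of_card_ne_zero (by rw [h.hcard]; norm_num)
  apply Function.Injective.bijective_of_nat_card_le h.Phi_inj
  rw [h.hcard, Nat.card_prod, Nat.card_eq_fintype_card, QuaternionGroup.card, Nat.card_zmod]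

end Q8C3

/-- two groups with `Q8C3` data are isomorphic. -/
theorem Q8C3.mulEquiv {H₁ H₂ : Type*} [Group H₁] [Group H₂] {i₁ j₁ ρ₁ : H₁} {i₂ j₂ ρ₂ : H₂}
    (h₁ : Q8C3 i₁ j₁ ρ₁) (h₂ : Q8C3 i₂ j₂ ρ₂) : Nonempty (H₁ ≃* H₂) := by
  let e₁ := Equiv.ofBijective h₁.Phi h₁.Phi_bij
  let e₂ := Equiv.ofBijective h₂.Phi h₂.Phi_bij
  refine ⟨{ toEquiv := e₁.symm.trans e₂, map_mul' := ?_ }⟩
  intro x y
  obtain ⟨u, rfl⟩ := h₁.Phi_bij.2 x
  obtain ⟨v, rfl⟩ := h₁.Phi_bij.2 y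
  have hu : e₁.symm (h₁.Phi u) = u := e₁.symm_apply_apply u
  have hv : e₁.symm (h₁.Phi v) = v := e₁.symm_apply_apply v
  have huv : e₁.symm (h₁.Phi u * h₁.Phi v) = q8tw u v := by
    rw [← h₁.Phi_mul]
    exact e₁.symm_apply_apply _
  show e₂ (e₁.symm (h₁.Phi u * h₁.Phi v)) = e₂ (e₁.symm (h₁.Phi u)) * e₂ (e₁.symm (h₁.Phi v))
  rw [huv, hu, hv]
  exact h₂.Phi_mul u v

/-- `i` in `SL₂(3)`. -/
def sl23i : Matrix.SpecialLinearGroup (Fin 2) (ZMod 3) := ⟨!![0, 1; -1, 0], by decide⟩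

/-- `ρ` in `SL₂(3)`. -/
def sl23r : Matrix.SpecialLinearGroup (Fin 2) (ZMod 3) := ⟨!![1, -1; 0, 1], by decide⟩

theorem sl23_data : Q8C3 sl23i (sl23r * sl23i * sl23r⁻¹) sl23r where
  hi := by
    have h1 : ¬ sl23i ^ 2 ^ 1 = 1 := by decide
    have h2 : sl23i ^ 2 ^ (1 + 1) = 1 := by decide
    exact orderOf_eq_prime_pow h1 h2
  hj := by decide
  hij := by decide
  hρi := rfl
  hρj := by decide
  hρ := by
    have h1 : sl23r ^ 3 = 1 := by decide
    have h2 : sl23r ≠ 1 := by decide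
    exact orderOf_eq_prime h1 h2
  hcard := by
    rw [Nat.card_eq_fintype_card]
    decide

/-- a group with `Q8C3` data is isomorphic to `SL₂(3)`. -/
theorem Q8C3.sl23 {H : Type*} [Group H] {i j ρ : H} (h : Q8C3 i j ρ) :
    Nonempty (H ≃* Matrix.SpecialLinearGroup (Fin 2) (ZMod 3)) :=
  h.mulEquiv sl23_data

end Cfsg.Agent.Lib.Helper57
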