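import Mathlib
import Cfsg.Prelude.Def_Amalgam
import Cfsg.Prelude.Def_Local
import Cfsg.Agent.Lib.Helper58.CharP
import Cfsg.Agent.Lib.Helper30.Basic
import Cfsg.Agent.S0028

set_option autoImplicit false

namespace Cfsg.Agent.Lib.Helper57

open Cfsg

/-- transport of the characteristic `p` property along an isomorphism -/
theorem charP_of_equiv {K K' : Type*} [Group K] [Group K'] {p : ℕ} (e : K ≃* K')
    (h : Subgroup.centralizer (pCore p K : Set K) ≤ pCore p K) :
    Subgroup.centralizer (pCore p K' : Set K') ≤ pCore p K' := by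
  have hmem : ∀ x : K, x ∈ pCore p K ↔ e x ∈ pCore p K' := by
    intro x
    constructor
    · intro hx
      exact Helper58.pCore_le_comap_equiv e hx
    · intro hx
      have := Helper58.pCore_le_comap_equiv e.symm hx
      simpa using this
  intro y hy
  have h1 : e.symm y ∈ Subgroup.centralizer (pCore p K : Set K) := by
    rw [Subgroup.mem_centralizer_iff] at hy ⊢
    intro z hz
    have hz' : e z ∈ pCore p K' := (hmem z).mp hz
    have := hy (e z) hz'
    apply e.injective
    simpa using this
  have h2 := h h1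
  have := (hmem (e.symm y)).mp h2
  simpa using this

/-- `C(O_p(H)) ≤ O_p(H)` implies `F*(H) = O_p(H)` -/
theorem genFitting_eq_pCore_of_charP {H : Type*} [Group H] [Finite H] {p : ℕ} [Fact p.Prime]
    (hcent : Subgroup.centralizer (pCore p H : Set H) ≤ pCore p H) :
    generalizedFittingSubgroup H = pCore p H := by
  have hQn : (pCore p H).Normal := Helper58.pCore_normal p H
  have hQp : IsPGroup p ↥(pCore p H) := Helper58.isPGroup_pCore p H
  have hQnil : Group.IsNilpotent ↥(pCore p H) := hQp.isNilpotent
  have hQsol : Group.IsSolvable ↥(pCore p H) := inferInstance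
  have hQF : pCore p H ≤ fittingSubgroup H := le_sSup ⟨hQn, hQnil⟩
  have hlayer : layer H = ⊥ := by
    unfold layer
    rw [sSup_eq_bot]
    intro K hK
    exfalso
    have h1 : K ≤ layer H := Helper30.comp_le_layer hK
    have h2 : layer H ≤ Subgroup.centralizer (pCore p H : Set H) :=
      Helper30.layer_le_centralizer_fitting.trans (Subgroup.centralizer_le hQF)
    exact Helper30.comp_not_le_solvable hK hQsol (h1.trans (h2.trans hcent))
  have hfit : fittingSubgroup H = pCore p H := by
    apply le_antisymm
    · apply sSup_le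
      rintro N ⟨hNn, hNnil⟩
      apply Helper58.le_pCore hNn
      have key : ∀ q : ℕ, q.Prime → q ∣ Nat.card ↥N → q = p := by
        intro q hq hdvd
        by_contra hne
        have : Fact q.Prime := ⟨hq⟩
        obtain ⟨S⟩ : Nonempty (Sylow q ↥N) := inferInstance
        have hSn : (S : Subgroup ↥N).Normal :=
          Sylow.normal_of_normalizerCondition Group.normalizerCondition_of_isNilpotent S
        have hSc : (S : Subgroup ↥N).Characteristic := S.characteristic_of_normal hSn
        have hS'n : ((S : Subgroup ↥N).map N.subtype).Normal := inferInstance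
        have hS'q : IsPGroup q ↥((S : Subgroup ↥N).map N.subtype) := S.isPGroup'.map _
        have hdisj : Disjoint ((S : Subgroup ↥N).map N.subtype) (pCore p H) :=
          IsPGroup.disjoint_of_ne q p hne _ _ hS'q hQp
        have hcomm : ⁅(S : Subgroup ↥N).map N.subtype, pCore p H⁆ = ⊥ :=
          Subgroup.commutator_eq_bot_of_disjoint hdisj
        have hle : (S : Subgroup ↥N).map N.subtype ≤ pCore p H :=
          (Subgroup.commutator_eq_bot_iff_le_centralizer.mp hcomm).trans hcent
        have hbot : (S : Subgroup ↥N).map N.subtype = ⊥ := by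
          rw [eq_bot_iff]
          exact (le_inf le_rfl hle).trans (disjoint_iff.mp hdisj).le
        have hSbot : (S : Subgroup ↥N) = ⊥ := by
          rw [eq_bot_iff]
          intro x hx
          have : (x : H) ∈ (S : Subgroup ↥N).map N.subtype := ⟨x, hx, rfl⟩
          rw [hbot, Subgroup.mem_bot] at this
          rw [Subgroup.mem_bot]
          exact Subtype.ext this
        exact S.ne_bot_of_dvd_card hdvd hSbot
      have hcard := Nat.eq_prime_pow_of_unique_prime_dvd (Nat.card_pos (α := ↥N)).ne'
        (fun {d} hd hdvd => key d hd hdvd)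
      exact IsPGroup.of_card hcard
    · exact hQF
  unfold generalizedFittingSubgroup
  rw [hlayer, hfit, bot_sup_eq]

/-- `F*(H) = O_p(H)` implies `C(O_p(H)) ≤ O_p(H)` -/
theorem charP_of_genFitting_eq_pCore {H : Type*} [Group H] [Finite H] {p : ℕ}
    (h : generalizedFittingSubgroup H = pCore p H) :
    Subgroup.centralizer (pCore p H : Set H) ≤ pCore p H := by
  rw [← h]
  exact Helper30.centralizer_genFitting_le

theorem genFitting_eq_pCore_iff {H : Type*} [Group H] [Finite H] {p : ℕ} [Fact p.Prime] :
    generalizedFittingSubgroup H = pCore p H ↔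
      Subgroup.centralizer (pCore p H : Set H) ≤ pCore p H :=
  ⟨charP_of_genFitting_eq_pCore, genFitting_eq_pCore_of_charP⟩

variable {G : Type*} [Group G]

/-- Thompson's `A × B` lemma applied to the characteristic `p` property: if `H` has
characteristic `p`, `U ≤ H` is a `p`-subgroup and `M ≤ H` contains `C_{O_p(H)}(U)` and
`C_M(O_p(M))` centralizes `U`, then `M` has characteristic `p`. -/
theorem charPIn_of_thompson [Finite G] {p : ℕ} [Fact p.Prime] {H M U : Subgroup G}
    (hH : H ⊓ Subgroup.centralizer (pCoreOf p H : Set G) ≤ pCoreOf p H)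
    (hU : IsPGroup p ↥U) (hUH : U ≤ H) (hMH : M ≤ H)
    (hQM : pCoreOf p H ⊓ Subgroup.centralizer (U : Set G) ≤ M)
    (hx : M ⊓ Subgroup.centralizer (pCoreOf p M : Set G) ≤ Subgroup.centralizer (U : Set G)) :
    M ⊓ Subgroup.centralizer (pCoreOf p M : Set G) ≤ pCoreOf p M := by
  have hQp : IsPGroup p ↥(pCoreOf p H) := Helper58.isPGroup_pCoreOf p H
  have hHQ : H ≤ Subgroup.normalizer (pCoreOf p H : Set G) := Helper58.le_normalizer_pCoreOf p H
  have hQM' : pCoreOf p H ⊓ Subgroup.centralizer (U : Set G) ≤ pCoreOf p M := by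
    have h1 : pCoreOf p H ⊓ M ≤ pCoreOf p M := by
      apply Helper58.le_pCoreOf inf_le_right _ (hQp.to_le inf_le_left)
      exact le_trans (le_inf (hMH.trans hHQ) Subgroup.le_normalizer)
        Subgroup.inf_normalizer_le_normalizer_inf
    exact (le_inf inf_le_left hQM).trans h1
  have hDn := Helper58.le_normalizer_inf_centralizer (Helper58.le_normalizer_pCoreOf p M)
  have hDp : IsPGroup p ↥(M ⊓ Subgroup.centralizer (pCoreOf p M : Set G)) := by
    apply Helper58.isPGroup_of_coprime_trivial
    intro c hc hco
    have hcU : c ∈ Subgroup.centralizer (U : Set G) := hx hc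
    have hcM : c ∈ M := hc.1
    have hcQM : c ∈ Subgroup.centralizer (pCoreOf p M : Set G) := hc.2
    have hzU : Subgroup.zpowers c ≤ Subgroup.centralizer (U : Set G) :=
      (Subgroup.zpowers_le).mpr hcU
    have hzQM : Subgroup.zpowers c ≤ Subgroup.centralizer (pCoreOf p M : Set G) :=
      (Subgroup.zpowers_le).mpr hcQM
    have hcard : (Nat.card ↥(Subgroup.zpowers c)).Coprime p := by
      rw [Nat.card_zpowers]; exact hco
    have key := Cfsg.Agent.S0028.result p U (Subgroup.zpowers c) (pCoreOf p H) hU hcard hQp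
      (Subgroup.le_centralizer_iff.mp hzU) (hUH.trans hHQ)
      ((Subgroup.zpowers_le).mpr (hHQ (hMH hcM)))
      (hQM'.trans (Subgroup.le_centralizer_iff.mp hzQM))
    have hcQ : c ∈ pCoreOf p H :=
      hH ⟨hMH hcM, key (Subgroup.mem_zpowers c)⟩
    exact Helper58.eq_one_of_coprime_of_pElement c hco (Helper58.exists_pow_eq_one_of_mem hQp hcQ)
  exact Helper58.le_pCoreOf inf_le_left hDn hDp

/-- `C_G(B)` has characteristic `p` if it lies in a subgroup `H ≥ B` of characteristic `p` -/
theorem charPIn_centralizer [Finite G] {p : ℕ} [Fact p.Prime] {H B : Subgroup G}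
    (hH : H ⊓ Subgroup.centralizer (pCoreOf p H : Set G) ≤ pCoreOf p H)
    (hB : IsPGroup p ↥B) (hBH : B ≤ H) (hCH : Subgroup.centralizer (B : Set G) ≤ H) :
    Subgroup.centralizer (B : Set G) ⊓
        Subgroup.centralizer (pCoreOf p (Subgroup.centralizer (B : Set G)) : Set G) ≤
      pCoreOf p (Subgroup.centralizer (B : Set G)) :=
  charPIn_of_thompson hH hB hBH hCH inf_le_right inf_le_left

/-- `N_G(B)` has characteristic `p` if `B` and `C_G(B)` lie in a subgroup `H` of
characteristic `p` -/
theorem charPIn_normalizer [Finite G] {p : ℕ} [Fact p.Prime] {H B : Subgroup G}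
    (hH : H ⊓ Subgroup.centralizer (pCoreOf p H : Set G) ≤ pCoreOf p H)
    (hB : IsPGroup p ↥B) (hBH : B ≤ H) (hCH : Subgroup.centralizer (B : Set G) ≤ H) :
    Subgroup.normalizer (B : Set G) ⊓
        Subgroup.centralizer (pCoreOf p (Subgroup.normalizer (B : Set G)) : Set G) ≤
      pCoreOf p (Subgroup.normalizer (B : Set G)) := by
  have hM := charPIn_centralizer hH hB hBH hCH
  have hBL : B ≤ pCoreOf p (Subgroup.normalizer (B : Set G)) :=
    Helper58.le_pCoreOf Subgroup.le_normalizer le_rfl hB
  have hML : Subgroup.centralizer (B : Set G) ≤ Subgroup.normalizer (B : Set G) :=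
    Subgroup.centralizer_le_normalizer _
  have hcore : pCoreOf p (Subgroup.centralizer (B : Set G)) ≤
      pCoreOf p (Subgroup.normalizer (B : Set G)) :=
    Helper58.pCoreOf_le_pCoreOf_of_normal hML (Helper58.normalizer_le_normalizer_centralizer B)
  intro x hx
  have hx1 : x ∈ Subgroup.centralizer (B : Set G) := Subgroup.centralizer_le hBL hx.2
  have hx2 : x ∈ Subgroup.centralizer (pCoreOf p (Subgroup.centralizer (B : Set G)) : Set G) :=
    Subgroup.centralizer_le hcore hx.2
  exact hcore (hM ⟨hx1, hx2⟩)

/-- type-level version for the normalizer -/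
theorem charP_normalizer [Finite G] {p : ℕ} [Fact p.Prime] {H B : Subgroup G}
    (hH : Subgroup.centralizer (pCore p ↥H : Set ↥H) ≤ pCore p ↥H)
    (hB : IsPGroup p ↥B) (hBH : B ≤ H) (hCH : Subgroup.centralizer (B : Set G) ≤ H) :
    Subgroup.centralizer (pCore p ↥(Subgroup.normalizer (B : Set G)) :
        Set ↥(Subgroup.normalizer (B : Set G))) ≤ pCore p ↥(Subgroup.normalizer (B : Set G)) := by
  rw [Helper58.charP_subtype_iff] at hH ⊢
  exact charPIn_normalizer hH hB hBH hCH

/-- type-level version for the centralizer -/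
theorem charP_centralizer [Finite G] {p : ℕ} [Fact p.Prime] {H B : Subgroup G}
    (hH : Subgroup.centralizer (pCore p ↥H : Set ↥H) ≤ pCore p ↥H)
    (hB : IsPGroup p ↥B) (hBH : B ≤ H) (hCH : Subgroup.centralizer (B : Set G) ≤ H) :
    Subgroup.centralizer (pCore p ↥(Subgroup.centralizer (B : Set G)) :
        Set ↥(Subgroup.centralizer (B : Set G))) ≤ pCore p ↥(Subgroup.centralizer (B : Set G)) := by
  rw [Helper58.charP_subtype_iff] at hH ⊢
  exact charPIn_centralizer hH hB hBH hCH

end Cfsg.Agent.Lib.Helper57
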