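import Mathlib
import Cfsg.Prelude.Def_LocalStructure
import Cfsg.Agent.Lib.Helper57.CharP
import Cfsg.Agent.Lib.Helper57.Basic
import Cfsg.Agent.Lib.Helper30.Conj
import Cfsg.Agent.S2923

set_option autoImplicit false

namespace Cfsg.Agent.Lib.Helper57

open Cfsg

/-- a normal subgroup of a `p`-group meets the centre nontrivially -/
theorem exists_center_mem_of_normal_ne_bot' {P : Type*} [Group P] [Finite P] {p : ℕ}
    [Fact p.Prime] (hP : IsPGroup p P) (N : Subgroup P) [N.Normal] (hN : N ≠ ⊥) :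
    ∃ z ∈ N, z ≠ 1 ∧ z ∈ Subgroup.center P := by
  have hNp : IsPGroup p ↥N := hP.to_subgroup N
  have hnt : Nontrivial ↥N := (Subgroup.nontrivial_iff_ne_bot N).mpr hN
  have dvd : p ∣ Nat.card ↥N := by
    obtain ⟨n, hn0, hn⟩ := hNp.nontrivial_iff_card.mp hnt
    exact hn.symm ▸ dvd_pow_self _ (ne_of_gt hn0)
  have h1 : (1 : ↥N) ∈ MulAction.fixedPoints (ConjAct P) ↥N := by
    intro g
    exact smul_one g
  obtain ⟨b, hb, hb1⟩ :=
    (hP.of_equiv ConjAct.toConjAct).exists_fixed_point_of_prime_dvd_card_of_fixed_point ↥N dvd h1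
  refine ⟨(b : P), b.2, ?_, ?_⟩
  · intro h
    apply hb1
    ext
    simp [h]
  · rw [Subgroup.mem_center_iff]
    intro g
    have h2 := hb (ConjAct.toConjAct g)
    have h3 : g * (b : P) * g⁻¹ = b := by
      have := congrArg Subtype.val h2
      rwa [ConjAct.Subgroup.val_conj_smul, ConjAct.toConjAct_smul] at this
    calc g * (b : P) = g * (b : P) * g⁻¹ * g := by simp
      _ = (b : P) * g := by rw [h3]

variable {G : Type*} [Group G]

/-- a nontrivial subgroup `R` of a `p`-group `T` normalized by `T` contains an element of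
order `p` that is central in `T` -/
theorem exists_central_orderOf_of_normal [Finite G] {p : ℕ} [Fact p.Prime] {R T : Subgroup G}
    (hT : IsPGroup p ↥T) (hRT : R ≤ T) (hn : T ≤ Subgroup.normalizer (R : Set G)) (hR : R ≠ ⊥) :
    ∃ z ∈ R, orderOf z = p ∧ ∀ t ∈ T, t * z = z * t := by
  have hRn : (R.subgroupOf T).Normal := (Subgroup.normal_subgroupOf_iff_le_normalizer hRT).mpr hn
  have hRne : R.subgroupOf T ≠ ⊥ := by
    intro h0
    apply hR
    rw [eq_bot_iff]
    intro x hx
    have h1 : (⟨x, hRT hx⟩ : ↥T) ∈ R.subgroupOf T := Subgroup.mem_subgroupOf.mpr hx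
    rw [h0, Subgroup.mem_bot] at h1
    rw [Subgroup.mem_bot]
    exact congrArg Subtype.val h1
  obtain ⟨z₀, hz₀C, hz₀ne, hz₀c⟩ := exists_center_mem_of_normal_ne_bot' hT _ hRne
  set Z := R.subgroupOf T ⊓ Subgroup.center ↥T with hZ
  have hZne : Z ≠ ⊥ := by
    intro h0
    have : z₀ ∈ Z := ⟨hz₀C, hz₀c⟩
    rw [h0, Subgroup.mem_bot] at this
    exact hz₀ne this
  have hZp : IsPGroup p ↥Z := hT.to_subgroup Z
  obtain ⟨y, hyZ, hy⟩ := exists_orderOf_eq_of_ne_bot hZp hZne
  refine ⟨(y : G), Subgroup.mem_subgroupOf.mp hyZ.1, (Subgroup.orderOf_coe y).trans hy, ?_⟩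
  intro t ht
  have := (Subgroup.mem_center_iff.mp hyZ.2) ⟨t, ht⟩
  exact congrArg Subtype.val this

/-- characteristic `p` passes to conjugate element centralizers -/
theorem charP_centralizer_conj {p : ℕ} (g a : G)
    (h : Subgroup.centralizer (pCore p ↥(Subgroup.centralizer ({a} : Set G)) :
        Set ↥(Subgroup.centralizer ({a} : Set G))) ≤ pCore p ↥(Subgroup.centralizer ({a} : Set G))) :
    Subgroup.centralizer (pCore p ↥(Subgroup.centralizer ({g * a * g⁻¹} : Set G)) :
        Set ↥(Subgroup.centralizer ({g * a * g⁻¹} : Set G))) ≤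
      pCore p ↥(Subgroup.centralizer ({g * a * g⁻¹} : Set G)) := by
  have e1 : ↥(Subgroup.centralizer ({a} : Set G)) ≃*
      ↥((Subgroup.centralizer ({a} : Set G)).map (MulAut.conj g).toMonoidHom) :=
    (Subgroup.centralizer ({a} : Set G)).equivMapOfInjective (MulAut.conj g).toMonoidHom
      (MulAut.conj g).injective
  have e2 : ↥((Subgroup.centralizer ({a} : Set G)).map (MulAut.conj g).toMonoidHom) ≃*
      ↥(Subgroup.centralizer ({g * a * g⁻¹} : Set G)) :=
    MulEquiv.subgroupCongr (Helper30.map_conj_centralizer_singleton g a)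
  exact charP_of_equiv (e1.trans e2) h

/-- a subgroup `C ≤ N` normalized by `N` inherits characteristic `p` from `N` -/
theorem charP_of_normal_of_le [Finite G] {p : ℕ} [Fact p.Prime] {C N : Subgroup G} (hCN : C ≤ N)
    (hn : N ≤ Subgroup.normalizer (C : Set G))
    (h : Subgroup.centralizer (pCore p ↥N : Set ↥N) ≤ pCore p ↥N) :
    Subgroup.centralizer (pCore p ↥C : Set ↥C) ≤ pCore p ↥C := by
  have hCn : (C.subgroupOf N).Normal := (Subgroup.normal_subgroupOf_iff_le_normalizer hCN).mpr hn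
  have h1 := Cfsg.Agent.S2923.charp_normal (C.subgroupOf N) h
  exact charP_of_equiv (Subgroup.subgroupOfEquivOfLe hCN) h1

theorem centralizer_zpowers_eq (z : G) :
    Subgroup.centralizer (Subgroup.zpowers z : Set G) = Subgroup.centralizer ({z} : Set G) := by
  rw [Subgroup.zpowers_eq_closure, Subgroup.centralizer_closure]

/-- if `N_G(⟨z⟩)` has characteristic `p` then so has `C_G(z)` -/
theorem charP_centralizer_of_normalizer_zpowers [Finite G] {p : ℕ} [Fact p.Prime] (z : G)
    (h : Subgroup.centralizer (pCore p ↥(Subgroup.normalizer (Subgroup.zpowers z : Set G)) :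
        Set ↥(Subgroup.normalizer (Subgroup.zpowers z : Set G))) ≤
      pCore p ↥(Subgroup.normalizer (Subgroup.zpowers z : Set G))) :
    Subgroup.centralizer (pCore p ↥(Subgroup.centralizer ({z} : Set G)) :
        Set ↥(Subgroup.centralizer ({z} : Set G))) ≤ pCore p ↥(Subgroup.centralizer ({z} : Set G)) := by
  refine charP_of_normal_of_le (centralizer_singleton_le_normalizer_zpowers z) ?_ h
  have := Helper58.normalizer_le_normalizer_centralizer (Subgroup.zpowers z)
  rwa [centralizer_zpowers_eq] at this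

/-- transport between `C_{G₁}(z₁)` computed in the subgroup `G₁` and in the ambient group -/
theorem charP_centralizer_subtype {p : ℕ} (G₁ : Subgroup G) (z₁ : ↥G₁)
    (h : Subgroup.centralizer (pCore p ↥(G₁ ⊓ Subgroup.centralizer ({(z₁ : G)} : Set G)) :
        Set ↥(G₁ ⊓ Subgroup.centralizer ({(z₁ : G)} : Set G))) ≤
      pCore p ↥(G₁ ⊓ Subgroup.centralizer ({(z₁ : G)} : Set G))) :
    Subgroup.centralizer (pCore p ↥(Subgroup.centralizer ({z₁} : Set ↥G₁)) :
        Set ↥(Subgroup.centralizer ({z₁} : Set ↥G₁))) ≤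
      pCore p ↥(Subgroup.centralizer ({z₁} : Set ↥G₁)) := by
  have hmap : (Subgroup.centralizer ({z₁} : Set ↥G₁)).map G₁.subtype =
      G₁ ⊓ Subgroup.centralizer ({(z₁ : G)} : Set G) := by
    ext x
    simp only [Subgroup.mem_map, Subgroup.mem_inf, Subgroup.mem_centralizer_iff,
      Set.mem_singleton_iff, forall_eq, Subgroup.coe_subtype]
    constructor
    · rintro ⟨y, hy, rfl⟩
      exact ⟨y.2, congrArg Subtype.val hy⟩
    · rintro ⟨hx1, hx2⟩
      exact ⟨⟨x, hx1⟩, Subtype.ext hx2, rfl⟩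
  have e1 : ↥(Subgroup.centralizer ({z₁} : Set ↥G₁)) ≃*
      ↥((Subgroup.centralizer ({z₁} : Set ↥G₁)).map G₁.subtype) :=
    (Subgroup.centralizer ({z₁} : Set ↥G₁)).equivMapOfInjective G₁.subtype G₁.subtype_injective
  have e2 : ↥((Subgroup.centralizer ({z₁} : Set ↥G₁)).map G₁.subtype) ≃*
      ↥(G₁ ⊓ Subgroup.centralizer ({(z₁ : G)} : Set G)) := MulEquiv.subgroupCongr hmap
  exact charP_of_equiv (e1.trans e2).symm h

/-- if `C_G(z)` has characteristic `p` for some `z ∈ Z(R)`, `R` a `p`-subgroup, then `N_G(R)`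
has characteristic `p` -/
theorem charP_normalizer_of_central_mem [Finite G] {p : ℕ} [Fact p.Prime] {R : Subgroup G}
    (hR : IsPGroup p ↥R) {z : G} (hz : z ∈ R) (hzc : ∀ r ∈ R, r * z = z * r)
    (h : Subgroup.centralizer (pCore p ↥(Subgroup.centralizer ({z} : Set G)) :
        Set ↥(Subgroup.centralizer ({z} : Set G))) ≤ pCore p ↥(Subgroup.centralizer ({z} : Set G))) :
    Subgroup.centralizer (pCore p ↥(Subgroup.normalizer (R : Set G)) :
        Set ↥(Subgroup.normalizer (R : Set G))) ≤ pCore p ↥(Subgroup.normalizer (R : Set G)) := by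
  refine charP_normalizer h hR ?_ ?_
  · intro r hr
    rw [mem_centralizer_singleton]
    exact (hzc r hr).symm
  · exact Subgroup.centralizer_le (Set.singleton_subset_iff.mpr hz)

theorem omegaOne_le (p : ℕ) (H : Subgroup G) : omegaOne p H ≤ H := by
  unfold omegaOne
  rw [Subgroup.closure_le]
  intro x hx
  exact hx.1

theorem mem_omegaOne {p : ℕ} {H : Subgroup G} {x : G} (hx : x ∈ H) (hxp : x ^ p = 1) :
    x ∈ omegaOne p H :=
  Subgroup.subset_closure ⟨hx, hxp⟩

/-- in a group of parabolic characteristic `p`, the centralizer of a nontrivial element of the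
centre of a Sylow `p`-subgroup has characteristic `p` -/
theorem charP_centralizer_of_parabolic [Finite G] {p : ℕ} [Fact p.Prime]
    (hG : IsOfParabolicCharacteristic p G) (S : Sylow p G) {z : G} (hz1 : z ≠ 1)
    (hzS : z ∈ (S : Subgroup G)) (hzc : ∀ s ∈ (S : Subgroup G), s * z = z * s) :
    Subgroup.centralizer (pCore p ↥(Subgroup.centralizer ({z} : Set G)) :
        Set ↥(Subgroup.centralizer ({z} : Set G))) ≤ pCore p ↥(Subgroup.centralizer ({z} : Set G)) := by
  apply charP_centralizer_of_normalizer_zpowers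
  refine hG (Subgroup.zpowers z) ?_ ?_ ?_
  · exact S.isPGroup'.to_le ((Subgroup.zpowers_le).mpr hzS)
  · intro h0
    apply hz1
    have : z ∈ Subgroup.zpowers z := Subgroup.mem_zpowers z
    rwa [h0, Subgroup.mem_bot] at this
  · refine ⟨S, ?_⟩
    intro s hs
    apply centralizer_singleton_le_normalizer_zpowers z
    rw [mem_centralizer_singleton]
    exact (hzc s hs).symm

end Cfsg.Agent.Lib.Helper57
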