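import Mathlib
import Cfsg.Agent.Lib.Helper97.Transv

/-!
# Project DK (helper44, S5798): piece DK-RHO

The group hom `SL_2(F) →* GL_n(F)` attached to two transvections with centres `u`, `a` and
functionals `φ`, `α` (`φ u = 0`, `α a = 0`, `φ a ≠ 0`, `α u ≠ 0`).
-/

set_option autoImplicit false

namespace Cfsg.Agent.Lib.Helper44.SubfDk

open Matrix Cfsg.Agent.Lib.Helper97

/-- the `n × 2` matrix with columns `b0`, `b1` -/
private def dkrho_B {n : ℕ} {F : Type*} [Field F] (b0 b1 : Fin n → F) : Matrix (Fin n) (Fin 2) F :=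
  fun i s => if s = 0 then b0 i else b1 i

/-- the `2 × n` matrix with rows `β0`, `β1` -/
private def dkrho_C {n : ℕ} {F : Type*} [Field F] (β0 β1 : Fin n → F) : Matrix (Fin 2) (Fin n) F :=
  fun t j => if t = 0 then β0 j else β1 j

private theorem dkrho_CB {n : ℕ} {F : Type*} [Field F] (b0 b1 β0 β1 : Fin n → F)
    (h00 : β0 ⬝ᵥ b0 = 1) (h01 : β0 ⬝ᵥ b1 = 0) (h10 : β1 ⬝ᵥ b0 = 0) (h11 : β1 ⬝ᵥ b1 = 1) :
    dkrho_C β0 β1 * dkrho_B b0 b1 = 1 := by
  ext s t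
  rw [Matrix.mul_apply]
  fin_cases s <;> fin_cases t
  · simpa [dkrho_C, dkrho_B, dotProduct] using h00
  · simpa [dkrho_C, dkrho_B, dotProduct] using h01
  · simpa [dkrho_C, dkrho_B, dotProduct] using h10
  · simpa [dkrho_C, dkrho_B, dotProduct] using h11

/-- the multiplicative map `M ↦ 1 + B (M - 1) C` -/
private def dkrho_R {n : ℕ} {F : Type*} [Field F] (Bm : Matrix (Fin n) (Fin 2) F)
    (Cm : Matrix (Fin 2) (Fin n) F) (h : Cm * Bm = 1) :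
    Matrix (Fin 2) (Fin 2) F →* Matrix (Fin n) (Fin n) F where
  toFun M := 1 + Bm * (M - 1) * Cm
  map_one' := by
    rw [sub_self, Matrix.mul_zero, Matrix.zero_mul, add_zero]
  map_mul' M M' := by
    have h1 : (1 + Bm * (M - 1) * Cm) * (1 + Bm * (M' - 1) * Cm) =
        1 + Bm * (M - 1) * Cm + Bm * (M' - 1) * Cm +
          Bm * (M - 1) * (Cm * Bm) * (M' - 1) * Cm := by
      rw [Matrix.add_mul, Matrix.mul_add, Matrix.mul_add, Matrix.one_mul, Matrix.one_mul,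
        Matrix.mul_one]
      simp only [Matrix.mul_assoc]
      abel
    rw [h1, h, Matrix.mul_one]
    have h2 : M * M' - 1 = (M - 1) + (M' - 1) + (M - 1) * (M' - 1) := by
      noncomm_ring
    rw [h2, Matrix.mul_add, Matrix.mul_add, Matrix.add_mul, Matrix.add_mul]
    simp only [Matrix.mul_assoc]
    abel

private theorem dkrho_R_apply {n : ℕ} {F : Type*} [Field F] (Bm : Matrix (Fin n) (Fin 2) F)
    (Cm : Matrix (Fin 2) (Fin n) F) (h : Cm * Bm = 1) (M : Matrix (Fin 2) (Fin 2) F) :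
    dkrho_R Bm Cm h M = 1 + Bm * (M - 1) * Cm := rfl

-- piece DK-RHO
theorem dk_rho {n : ℕ} {F : Type*} [Field F] (u a φ α : Fin n → F)
    (hφu : φ ⬝ᵥ u = 0) (hαa : α ⬝ᵥ a = 0) (hφa : φ ⬝ᵥ a ≠ 0) (hαu : α ⬝ᵥ u ≠ 0) :
    ∃ ρ : Matrix.SpecialLinearGroup (Fin 2) F →* GL (Fin n) F,
      (∀ (x : F) (g : Matrix.SpecialLinearGroup (Fin 2) F),
        (g : Matrix (Fin 2) (Fin 2) F) = !![1, x; 0, 1] →
          ((ρ g : GL (Fin n) F) : Matrix (Fin n) (Fin n) F) = tv u (x • φ)) ∧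
      (∀ (y : F) (g : Matrix.SpecialLinearGroup (Fin 2) F),
        (g : Matrix (Fin 2) (Fin 2) F) = !![1, 0; y, 1] →
          ((ρ g : GL (Fin n) F) : Matrix (Fin n) (Fin n) F)
            = tv a ((y / ((φ ⬝ᵥ a) * (α ⬝ᵥ u))) • α)) := by
  have h00 : ((α ⬝ᵥ u)⁻¹ • α) ⬝ᵥ u = 1 := by
    rw [smul_dotProduct, smul_eq_mul, inv_mul_cancel₀ hαu]
  have h01 : ((α ⬝ᵥ u)⁻¹ • α) ⬝ᵥ ((φ ⬝ᵥ a)⁻¹ • a) = 0 := by
    rw [smul_dotProduct, dotProduct_smul, hαa, smul_zero, smul_zero]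
  have h11 : φ ⬝ᵥ ((φ ⬝ᵥ a)⁻¹ • a) = 1 := by
    rw [dotProduct_smul, smul_eq_mul, inv_mul_cancel₀ hφa]
  have hCB := dkrho_CB u ((φ ⬝ᵥ a)⁻¹ • a) ((α ⬝ᵥ u)⁻¹ • α) φ h00 h01 hφu h11
  refine ⟨(Units.map (dkrho_R _ _ hCB)).comp Matrix.SpecialLinearGroup.toGL, ?_, ?_⟩
  · intro x g hg
    have h1 : (((Units.map (dkrho_R _ _ hCB)).comp Matrix.SpecialLinearGroup.toGL) g :
        Matrix (Fin n) (Fin n) F) = dkrho_R _ _ hCB (g : Matrix (Fin 2) (Fin 2) F) := rfl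
    rw [h1, dkrho_R_apply, hg]
    ext i j
    rw [tv, Matrix.add_apply, Matrix.add_apply, Matrix.mul_apply, Fin.sum_univ_two,
      Matrix.mul_apply, Matrix.mul_apply, Fin.sum_univ_two, Fin.sum_univ_two]
    simp [dkrho_B, dkrho_C, vecMulVec_apply]
    ring
  · intro y g hg
    have h1 : (((Units.map (dkrho_R _ _ hCB)).comp Matrix.SpecialLinearGroup.toGL) g :
        Matrix (Fin n) (Fin n) F) = dkrho_R _ _ hCB (g : Matrix (Fin 2) (Fin 2) F) := rfl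
    rw [h1, dkrho_R_apply, hg]
    ext i j
    rw [tv, Matrix.add_apply, Matrix.add_apply, Matrix.mul_apply, Fin.sum_univ_two,
      Matrix.mul_apply, Matrix.mul_apply, Fin.sum_univ_two, Fin.sum_univ_two]
    simp [dkrho_B, dkrho_C, vecMulVec_apply]
    field_simp

end Cfsg.Agent.Lib.Helper44.SubfDk
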