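import Mathlib
import Cfsg.Agent.Lib.Helper72.SCDefs

/-! Piece SC-FFE of the S4394 project (helper72): a group of automorphisms of exponent `p`
stabilizing an elementary abelian subgroup `W` of order `p ^ 2` acts on `W` through the powers
of any of its elements moving `W`. -/

set_option autoImplicit false

namespace Cfsg.Agent.Lib.Helper57.SC

open Cfsg.Agent.Lib.Helper72.SC

universe u

/-- the action of a group of automorphisms on an invariant subgroup -/
@[reducible] def ffeAct {V : Type*} [Group V] (B : Subgroup (MulAut V)) (U : Subgroup V)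
    (hU : ∀ b ∈ B, ∀ u ∈ U, b u ∈ U) : MulAction ↥B ↥U where
  smul b u := ⟨(b : MulAut V) (u : V), hU b b.2 u u.2⟩
  one_smul u := by
    apply Subtype.ext
    show ((1 : ↥B) : MulAut V) (u : V) = u
    simp
  mul_smul b c u := by
    apply Subtype.ext
    show ((b * c : ↥B) : MulAut V) (u : V) = (b : MulAut V) ((c : MulAut V) (u : V))
    simp

/-- a group of automorphisms of exponent `p` has a nontrivial fixed point on every invariant
subgroup of order divisible by `p` -/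
theorem ffe_fp {V : Type*} [Group V] [Finite V] (p : ℕ) [Fact p.Prime]
    (B : Subgroup (MulAut V)) (U : Subgroup V) (hB : ∀ b ∈ B, b ^ p = 1)
    (hU : ∀ b ∈ B, ∀ u ∈ U, b u ∈ U) (hp : p ∣ Nat.card ↥U) :
    ∃ u ∈ U, u ≠ 1 ∧ ∀ b ∈ B, b u = u := by
  classical
  let act : MulAction ↥B ↥U := ffeAct B U hU
  have hBp : IsPGroup p ↥B := by
    intro b
    refine ⟨1, ?_⟩
    apply Subtype.ext
    rw [pow_one]
    simpa using hB b b.2
  have h1 : (1 : ↥U) ∈ MulAction.fixedPoints ↥B ↥U := by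
    intro b
    apply Subtype.ext
    show (b : MulAut V) ((1 : ↥U) : V) = ((1 : ↥U) : V)
    simp
  obtain ⟨u, hu, hne⟩ :=
    hBp.exists_fixed_point_of_prime_dvd_card_of_fixed_point (α := ↥U) hp h1
  refine ⟨u, u.2, ?_, ?_⟩
  · intro h
    apply hne
    apply Subtype.ext
    rw [h]
    rfl
  · intro b hb
    have h2 := hu ⟨b, hb⟩
    exact congrArg Subtype.val h2

/-- a subgroup between a subgroup of order `p` and a subgroup of order `p ^ 2`, containing an
element outside the small one, is the big one -/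
theorem ffe_eq_of_mem {V : Type*} [Group V] [Finite V] (p : ℕ) [Fact p.Prime]
    (Z E W : Subgroup V) (hZ : Nat.card ↥Z = p) (hW : Nat.card ↥W = p ^ 2) (hZE : Z ≤ E)
    (hEW : E ≤ W) (w : V) (hw : w ∈ E) (hwZ : w ∉ Z) : E = W := by
  have hp : p.Prime := Fact.out
  have h1 : Nat.card ↥E ∣ p ^ 2 := hW ▸ Subgroup.card_dvd_of_le hEW
  have h2 : Nat.card ↥Z ∣ Nat.card ↥E := Subgroup.card_dvd_of_le hZE
  obtain ⟨k, hk, hkE⟩ := (Nat.dvd_prime_pow hp).mp h1
  have hk2 : k = 2 := by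
    interval_cases k
    · exfalso
      rw [hZ, hkE, pow_zero, Nat.dvd_one] at h2
      exact hp.one_lt.ne' h2
    · exfalso
      apply hwZ
      have : Z = E := Subgroup.eq_of_le_of_card_ge hZE (by rw [hZ, hkE, pow_one])
      rw [this]
      exact hw
    · rfl
  subst hk2
  exact Subgroup.eq_of_le_of_card_ge hEW (by rw [hW, hkE])

theorem ffe_delta_mul {V : Type*} [Group V] (hcomm : ∀ a b : V, a * b = b * a) (b : MulAut V)
    (v w : V) : b (v * w) * (v * w)⁻¹ = (b v * v⁻¹) * (b w * w⁻¹) := by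
  rw [map_mul, mul_inv_rev, hcomm w⁻¹ v⁻¹]
  calc b v * b w * (v⁻¹ * w⁻¹) = b v * (b w * v⁻¹) * w⁻¹ := by group
    _ = b v * (v⁻¹ * b w) * w⁻¹ := by rw [hcomm (b w) v⁻¹]
    _ = (b v * v⁻¹) * (b w * w⁻¹) := by group

theorem ffe_delta_inv {V : Type*} [Group V] (hcomm : ∀ a b : V, a * b = b * a) (b : MulAut V)
    (v : V) : b v⁻¹ * v⁻¹⁻¹ = (b v * v⁻¹)⁻¹ := by
  rw [map_inv, mul_inv_rev]
  exact hcomm _ _

/-- the subgroup of `W` of elements moved by `b` inside `Z` -/
def ffeE {V : Type*} [Group V] (hcomm : ∀ a b : V, a * b = b * a) (b : MulAut V)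
    (W Z : Subgroup V) : Subgroup V where
  carrier := {v | v ∈ W ∧ b v * v⁻¹ ∈ Z}
  mul_mem' := by
    intro v w hv hw
    refine ⟨W.mul_mem hv.1 hw.1, ?_⟩
    rw [ffe_delta_mul hcomm]
    exact Z.mul_mem hv.2 hw.2
  one_mem' := by
    refine ⟨W.one_mem, ?_⟩
    simp
  inv_mem' := by
    intro v hv
    refine ⟨W.inv_mem hv.1, ?_⟩
    rw [ffe_delta_inv hcomm]
    exact Z.inv_mem hv.2

/-- the subgroup `{b w * w⁻¹ | w ∈ W}` -/
def ffeU {V : Type*} [Group V] (hcomm : ∀ a b : V, a * b = b * a) (b : MulAut V)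
    (W : Subgroup V) : Subgroup V where
  carrier := {v | ∃ w ∈ W, v = b w * w⁻¹}
  mul_mem' := by
    rintro _ _ ⟨v, hv, rfl⟩ ⟨w, hw, rfl⟩
    exact ⟨v * w, W.mul_mem hv hw, (ffe_delta_mul hcomm b v w).symm⟩
  one_mem' := ⟨1, W.one_mem, by simp⟩
  inv_mem' := by
    rintro _ ⟨v, hv, rfl⟩
    exact ⟨v⁻¹, W.inv_mem hv, (ffe_delta_inv hcomm b v).symm⟩

/-- the subgroup of `W` on which two automorphisms agree -/
def ffeEq {V : Type*} [Group V] (a b : MulAut V) (W : Subgroup V) : Subgroup V where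
  carrier := {v | v ∈ W ∧ a v = b v}
  mul_mem' := by
    intro v w hv hw
    refine ⟨W.mul_mem hv.1 hw.1, ?_⟩
    rw [map_mul, map_mul, hv.2, hw.2]
  one_mem' := ⟨W.one_mem, by simp⟩
  inv_mem' := by
    intro v hv
    refine ⟨W.inv_mem hv.1, ?_⟩
    rw [map_inv, map_inv, hv.2]

/-- **SC-FFE** -/
theorem ffe : FfeStmt.{u} := by
  intro V _ _ p _ A W x hcomm hexp hA hxA hW hinv hmove a haA
  classical
  have hp : p.Prime := Fact.out
  -- a nontrivial fixed point of `A` on `W`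
  obtain ⟨w0, hw0W, hw01, hw0fix⟩ :=
    ffe_fp p A W hA hinv (by rw [hW]; exact dvd_pow_self p two_ne_zero)
  have hZcard : Nat.card ↥(Subgroup.zpowers w0) = p := by
    rw [Nat.card_zpowers]
    exact orderOf_eq_prime (hexp w0) hw01
  have hZW : Subgroup.zpowers w0 ≤ W := by
    rw [Subgroup.zpowers_le]
    exact hw0W
  have hZfix : ∀ b ∈ A, ∀ v ∈ Subgroup.zpowers w0, b v = v := by
    intro b hb v hv
    obtain ⟨k, rfl⟩ := Subgroup.mem_zpowers_iff.mp hv
    rw [map_zpow, hw0fix b hb]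
  -- every element of `A` acts trivially on `W / Z`
  have step2 : ∀ b ∈ A, ∀ w ∈ W, b w * w⁻¹ ∈ Subgroup.zpowers w0 := by
    intro b hb w hw
    by_cases hwfix : b w = w
    · rw [hwfix, mul_inv_cancel]
      exact Subgroup.one_mem _
    -- the fixed points of `b` in `W` are `Z`
    have hF : ∀ v ∈ W, b v = v → v ∈ Subgroup.zpowers w0 := by
      intro v hv hbv
      by_contra hvZ
      have hE := ffe_eq_of_mem p (Subgroup.zpowers w0) (ffeEq b 1 W) W hZcard hW
        (fun y hy => ⟨hZW hy, by simpa using hZfix b hb y hy⟩) (fun y hy => hy.1) v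
        ⟨hv, by simpa using hbv⟩ hvZ
      have hwE : w ∈ ffeEq b 1 W := by rw [hE]; exact hw
      exact hwfix (by simpa using hwE.2)
    -- the cyclic group generated by `b` acts on `U = {b w * w⁻¹}`
    have hCA : Subgroup.zpowers b ≤ A := by
      rw [Subgroup.zpowers_le]
      exact hb
    have hUW : ffeU hcomm b W ≤ W := by
      rintro _ ⟨v, hv, rfl⟩
      exact W.mul_mem (hinv b hb v hv) (W.inv_mem hv)
    have hUinv : ∀ c ∈ Subgroup.zpowers b, ∀ u ∈ ffeU hcomm b W, c u ∈ ffeU hcomm b W := by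
      rintro c hc _ ⟨v, hv, rfl⟩
      refine ⟨c v, hinv c (hCA hc) v hv, ?_⟩
      obtain ⟨k, rfl⟩ := Subgroup.mem_zpowers_iff.mp hc
      have hcb : (b ^ k) (b v) = b ((b ^ k) v) := by
        have h1 : (b ^ k) * b = b * (b ^ k) := (Commute.zpow_self b k).eq
        have h2 := congrArg (fun f : MulAut V => f v) h1
        simpa [MulAut.mul_apply] using h2
      rw [map_mul, map_inv, hcb]
    have hUcard : p ∣ Nat.card ↥(ffeU hcomm b W) := by
      have h1 : Nat.card ↥(ffeU hcomm b W) ∣ p ^ 2 := hW ▸ Subgroup.card_dvd_of_le hUW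
      obtain ⟨k, hk, hkU⟩ := (Nat.dvd_prime_pow hp).mp h1
      have hk0 : k ≠ 0 := by
        rintro rfl
        rw [pow_zero, Subgroup.card_eq_one] at hkU
        have hmem : b w * w⁻¹ ∈ ffeU hcomm b W := ⟨w, hw, rfl⟩
        rw [hkU, Subgroup.mem_bot] at hmem
        exact hwfix (mul_inv_eq_one.mp hmem)
      rw [hkU]
      exact dvd_pow_self p hk0
    obtain ⟨u, huU, hu1, hufix⟩ := ffe_fp p (Subgroup.zpowers b) (ffeU hcomm b W)
      (fun c hc => hA c (hCA hc)) hUinv hUcard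
    have huZ : u ∈ Subgroup.zpowers w0 :=
      hF u (hUW huU) (hufix b (Subgroup.mem_zpowers b))
    obtain ⟨w', hw'W, hw'u⟩ := huU
    have hw'Z : w' ∉ Subgroup.zpowers w0 := by
      intro hw'
      apply hu1
      rw [hw'u, hZfix b hb w' hw', mul_inv_cancel]
    have hE := ffe_eq_of_mem p (Subgroup.zpowers w0)
      (ffeE hcomm b W (Subgroup.zpowers w0)) W hZcard hW
      (fun y hy => ⟨hZW hy, by
        rw [hZfix b hb y hy, mul_inv_cancel]
        exact Subgroup.one_mem _⟩) (fun y hy => hy.1) w' ⟨hw'W, by rw [← hw'u]; exact huZ⟩ hw'Z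
    have hwE : w ∈ ffeE hcomm b W (Subgroup.zpowers w0) := by rw [hE]; exact hw
    exact hwE.2
  -- the element moved by `x`
  obtain ⟨w1, hw1W, hw1x⟩ := hmove
  have hw1Z : w1 ∉ Subgroup.zpowers w0 := fun h => hw1x (hZfix x hxA w1 h)
  have hcZ : x w1 * w1⁻¹ ∈ Subgroup.zpowers w0 := step2 x hxA w1 hw1W
  have hc1 : x w1 * w1⁻¹ ≠ 1 := fun h => hw1x (mul_inv_eq_one.mp h)
  have heZ : a w1 * w1⁻¹ ∈ Subgroup.zpowers w0 := step2 a haA w1 hw1W
  -- `Z` is generated by `c = x w1 * w1⁻¹`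
  have hZc : Subgroup.zpowers (x w1 * w1⁻¹) = Subgroup.zpowers w0 := by
    apply Subgroup.eq_of_le_of_card_ge
    · rw [Subgroup.zpowers_le]
      exact hcZ
    · rw [hZcard, Nat.card_zpowers, orderOf_eq_prime (hexp _) hc1]
  have heC : a w1 * w1⁻¹ ∈ Subgroup.zpowers (x w1 * w1⁻¹) := by rw [hZc]; exact heZ
  have heP : a w1 * w1⁻¹ ∈ Submonoid.powers (x w1 * w1⁻¹) :=
    (isOfFinOrder_of_finite (x w1 * w1⁻¹)).mem_powers_iff_mem_zpowers.mpr heC
  obtain ⟨i, hi⟩ := (Submonoid.mem_powers_iff _ _).mp heP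
  refine ⟨i, ?_⟩
  -- powers of `x` on `w1`
  have hxc : x (x w1 * w1⁻¹) = x w1 * w1⁻¹ := hZfix x hxA _ hcZ
  have hpow : ∀ n : ℕ, (x ^ n) w1 = (x w1 * w1⁻¹) ^ n * w1 := by
    intro n
    induction n with
    | zero => simp
    | succ n ih =>
      rw [pow_succ', MulAut.mul_apply, ih, map_mul, map_pow, hxc, pow_succ]
      have h3 : x w1 = (x w1 * w1⁻¹) * w1 := by group
      rw [mul_assoc, ← h3]
  have hagree : a w1 = (x ^ i) w1 := by
    rw [hpow i, hi]
    group
  have hE := ffe_eq_of_mem p (Subgroup.zpowers w0) (ffeEq a (x ^ i) W) W hZcard hW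
    (fun y hy => ⟨hZW hy, by
      rw [hZfix a haA y hy, hZfix (x ^ i) (A.pow_mem hxA i) y hy]⟩) (fun y hy => hy.1) w1
    ⟨hw1W, hagree⟩ hw1Z
  intro w hw
  have hwE : w ∈ ffeEq a (x ^ i) W := by rw [hE]; exact hw
  exact hwE.2

end Cfsg.Agent.Lib.Helper57.SC
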