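import Mathlib
import Cfsg.Prelude.Def_GeometricClasses
import Cfsg.Prelude.Def_LieClassical
import Cfsg.Agent.Lib.Helper71.Asch0
import Cfsg.Agent.Lib.Helper29.SPPTens

/-!
# Project SP12 (helper71), piece TEVa (helper57)

In characteristic 2 a group of isometries inside `Sp_d ⊗ Sp_k` (both factors alternating) fixes a
quadratic form with polar form `f`: `Q₀ z = c * ∑_{i < i'} G₁ i i' * f₂ (row i) (row i')`, which
vanishes on pure tensors.
-/

set_option autoImplicit false

namespace Cfsg.Agent.Lib.Helper57.SP12TEVa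

open Matrix Cfsg.Geo Cfsg.Agent.Lib.Helper71.Asch
open Cfsg.Agent.Lib.Helper29.SPPTens
open scoped Kronecker

variable {n : ℕ} {F : Type*} [Field F] [Fintype F]

/-- the row `i` of a vector indexed by pairs -/
def tevRow {d k : ℕ} (z : Fin d × Fin k → F) (i : Fin d) : Fin k → F := fun j => z (i, j)

theorem tevRow_add {d k : ℕ} (x y : Fin d × Fin k → F) (i : Fin d) :
    tevRow (x + y) i = tevRow x i + tevRow y i := rfl

theorem tevRow_ptens {d k : ℕ} (u : Fin d → F) (v : Fin k → F) (i : Fin d) :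
    tevRow (ptens u v) i = u i • v := rfl

/-- a double sum with zero diagonal, folded along the strict upper triangle -/
theorem tev_fold {d : ℕ} (T : Fin d → Fin d → F) (hT : ∀ i, T i i = 0) :
    ∑ i, ∑ i', T i i' = ∑ i, ∑ i', if i < i' then T i i' + T i' i else 0 := by
  have h1 : ∀ i i', T i i' = (if i < i' then T i i' else 0) + (if i' < i then T i i' else 0) := by
    intro i i'
    rcases lt_trichotomy i i' with h | h | h
    · rw [if_pos h, if_neg (not_lt.mpr h.le), add_zero]
    · subst h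
      rw [if_neg (lt_irrefl _), hT, add_zero]
    · rw [if_neg (not_lt.mpr h.le), if_pos h, zero_add]
  have h2 : ∑ i, ∑ i', T i i' =
      ∑ i, ∑ i', (if i < i' then T i i' else 0) + ∑ i, ∑ i', (if i' < i then T i i' else 0) := by
    rw [← Finset.sum_add_distrib]
    apply Finset.sum_congr rfl
    intro i _
    rw [← Finset.sum_add_distrib]
    apply Finset.sum_congr rfl
    intro i' _
    exact h1 i i'
  rw [h2, Finset.sum_comm (f := fun i i' => if i' < i then T i i' else 0),
    ← Finset.sum_add_distrib]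
  apply Finset.sum_congr rfl
  intro i _
  rw [← Finset.sum_add_distrib]
  apply Finset.sum_congr rfl
  intro i' _
  by_cases h : i < i'
  · rw [if_pos h, if_pos h, if_pos h]
  · rw [if_neg h, if_neg h, if_neg h, add_zero]

/-- the form with Gram matrix `G₁ ⊗ₖ G₂`, by rows -/
theorem tev_formOfGram {d k : ℕ} (f₁ : (Fin d → F) → (Fin d → F) → F)
    (f₂ : (Fin k → F) → (Fin k → F) → F) (hb2 : IsBilinearForm f₂) (x y : Fin d × Fin k → F) :
    formOfGram id (gramMatrix f₁ ⊗ₖ gramMatrix f₂) x y =
      ∑ i, ∑ i', gramMatrix f₁ i i' * f₂ (tevRow x i) (tevRow y i') := by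
  unfold formOfGram
  simp only [Fintype.sum_prod_type, Matrix.kroneckerMap_apply, id]
  apply Finset.sum_congr rfl
  intro i _
  rw [Finset.sum_comm]
  apply Finset.sum_congr rfl
  intro i' _
  rw [tens_gram f₂ hb2, Finset.mul_sum]
  apply Finset.sum_congr rfl
  intro j _
  rw [Finset.mul_sum]
  apply Finset.sum_congr rfl
  intro j' _
  simp only [tevRow]
  ring

theorem tev_single {d k : ℕ} (i : Fin d) (j : Fin k) (t : F) :
    (Pi.single (i, j) t : Fin d × Fin k → F) = ptens (Pi.single i t) (Pi.single j 1) := by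
  funext p
  obtain ⟨i', j'⟩ := p
  simp only [ptens]
  by_cases hi : i' = i
  · subst hi
    by_cases hj : j' = j
    · subst hj
      simp
    · have : ((i', j') : Fin d × Fin k) ≠ (i', j) := fun h => hj (Prod.ext_iff.mp h).2
      rw [Pi.single_eq_of_ne this, Pi.single_eq_of_ne hj, mul_zero]
  · have : ((i', j') : Fin d × Fin k) ≠ (i, j) := fun h => hi (Prod.ext_iff.mp h).1
    rw [Pi.single_eq_of_ne this, Pi.single_eq_of_ne hi, zero_mul]

/-- TEVa: in characteristic 2 a group of isometries inside `Sp_d ⊗ Sp_k` (both factors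
alternating) fixes a quadratic form with polar form `f`. -/
theorem TEVa (hq : ¬ Odd (Fintype.card F)) (f : (Fin n → F) → (Fin n → F) → F)
    (hf : IsSymplecticForm f) (H : Subgroup (GL (Fin n) F)) (hfix : FixesForm (matrixSet H) f)
    {d k : ℕ} (e : Fin n ≃ Fin d × Fin k) (P : GL (Fin n) F)
    (f₁ : (Fin d → F) → (Fin d → F) → F) (f₂ : (Fin k → F) → (Fin k → F) → F)
    (h1 : IsSymplecticForm f₁) (h2 : IsSymmetricForm f₂) (halt : ∀ v, f₂ v v = 0)
    (ht : IsTensorFormStructure id f f₁ f₂ e P) (hH : H ≤ tensorProductSubgroup d k e P) :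
    ∃ Q : (Fin n → F) → F, IsNondegenerateQuadraticForm Q ∧
      (∀ u v : Fin n → F, QuadraticMap.polar Q u v = f u v) ∧ H ≤ quadSimilarityGroup Q := by
  classical
  -- characteristic 2
  have hchar : ringChar F = 2 := by
    rw [FiniteField.even_card_iff_char_two]
    rcases Nat.even_or_odd (Fintype.card F) with he | ho
    · exact Nat.even_iff.mp he
    · exact absurd ho hq
  have h2F : (2 : F) = 0 := by
    have h3 := (ringChar.spec F 2).2 (by rw [hchar])
    exact_mod_cast h3
  have hneg : ∀ t : F, -t = t := by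
    intro t
    linear_combination (-t) * h2F
  obtain ⟨c, hc, hform⟩ := ht
  have hb2 := h2.bilinear
  -- the Gram matrix of `f₁` is symmetric with zero diagonal
  have hG0 : ∀ i, gramMatrix f₁ i i = 0 := fun i => h1.alternating _
  have hGs : ∀ i i', gramMatrix f₁ i i' = gramMatrix f₁ i' i := by
    intro i i'
    show f₁ _ _ = f₁ _ _
    rw [h1.skew, hneg]
  -- the quadratic form on coordinates
  let Q₀ : (Fin d × Fin k → F) → F := fun z =>
    c * ∑ i, ∑ i', if i < i' then gramMatrix f₁ i i' * f₂ (tevRow z i) (tevRow z i') else 0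
  have hQ₀ : ∀ z, Q₀ z =
      c * ∑ i, ∑ i', if i < i' then gramMatrix f₁ i i' * f₂ (tevRow z i) (tevRow z i') else 0 :=
    fun z => rfl
  -- polar form of `Q₀`
  have hpol0 : ∀ x y, Q₀ (x + y) = Q₀ x + Q₀ y + f (tT e P x) (tT e P y) := by
    intro x y
    rw [tT_apply, tT_apply, hform, tev_formOfGram f₁ f₂ hb2,
      tev_fold (fun i i' => gramMatrix f₁ i i' * f₂ (tevRow x i) (tevRow y i'))
        (fun i => by simp only [hG0, zero_mul]),
      hQ₀, hQ₀, hQ₀, ← mul_add, ← mul_add, ← Finset.sum_add_distrib, ← Finset.sum_add_distrib]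
    congr 1
    apply Finset.sum_congr rfl
    intro i _
    rw [← Finset.sum_add_distrib, ← Finset.sum_add_distrib]
    apply Finset.sum_congr rfl
    intro i' _
    by_cases h : i < i'
    · simp only [if_pos h]
      rw [tevRow_add, tevRow_add, hb2.add_left, hb2.add_right, hb2.add_right, hGs i' i,
        h2.symm (tevRow x i') (tevRow y i)]
      ring
    · simp only [if_neg h, add_zero]
  -- `Q₀` on scalar multiples
  have hsm0 : ∀ (t : F) (z : Fin d × Fin k → F), Q₀ (t • z) = t ^ 2 * Q₀ z := by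
    intro t z
    rw [hQ₀, hQ₀, Finset.mul_sum, Finset.mul_sum, Finset.mul_sum]
    apply Finset.sum_congr rfl
    intro i _
    rw [Finset.mul_sum, Finset.mul_sum, Finset.mul_sum]
    apply Finset.sum_congr rfl
    intro i' _
    by_cases h : i < i'
    · simp only [if_pos h]
      rw [show tevRow (t • z) i = t • tevRow z i from rfl,
        show tevRow (t • z) i' = t • tevRow z i' from rfl, hb2.smul_left, hb2.smul_right]
      ring
    · simp only [if_neg h, mul_zero]
  -- `Q₀` vanishes on pure tensors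
  have hpt : ∀ (u : Fin d → F) (v : Fin k → F), Q₀ (ptens u v) = 0 := by
    intro u v
    rw [hQ₀]
    have : ∀ i i' : Fin d, (if i < i' then
        gramMatrix f₁ i i' * f₂ (tevRow (ptens u v) i) (tevRow (ptens u v) i') else 0) = 0 := by
      intro i i'
      rw [tevRow_ptens, tevRow_ptens, hb2.smul_left, hb2.smul_right, halt]
      simp
    simp only [this, Finset.sum_const_zero, mul_zero]
  have hQ00 : Q₀ 0 = 0 := by
    have h3 := hsm0 0 0
    rw [zero_smul] at h3
    rw [h3]
    ring
  -- the inverse of the transport map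
  let pre : (Fin n → F) → (Fin d × Fin k → F) := fun v => ((P⁻¹ : GL (Fin n) F).1 *ᵥ v) ∘ e.symm
  have hpre : ∀ v, tT e P (pre v) = v := by
    intro v
    rw [tT_apply]
    have h3 : (((P⁻¹ : GL (Fin n) F).1 *ᵥ v) ∘ e.symm) ∘ e = (P⁻¹ : GL (Fin n) F).1 *ᵥ v := by
      funext i
      simp
    show P.1 *ᵥ ((((P⁻¹ : GL (Fin n) F).1 *ᵥ v) ∘ e.symm) ∘ e) = v
    rw [h3, Matrix.mulVec_mulVec, ← Units.val_mul, mul_inv_cancel, Units.val_one,
      Matrix.one_mulVec]
  have hinj := tT_injective e P
  have hpre' : ∀ x, pre (tT e P x) = x := fun x => hinj (hpre _)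
  have hpre_add : ∀ u v, pre (u + v) = pre u + pre v := by
    intro u v
    apply hinj
    rw [hpre, map_add, hpre, hpre]
  have hpre_smul : ∀ (t : F) (v : Fin n → F), pre (t • v) = t • pre v := by
    intro t v
    apply hinj
    rw [hpre, map_smul, hpre]
  let Q : (Fin n → F) → F := fun v => Q₀ (pre v)
  have hQ : ∀ v, Q v = Q₀ (pre v) := fun v => rfl
  have hpolar : ∀ u v : Fin n → F, QuadraticMap.polar Q u v = f u v := by
    intro u v
    unfold QuadraticMap.polar
    rw [hQ, hQ, hQ, hpre_add, hpol0, hpre, hpre]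
    ring
  have hpolar' : QuadraticMap.polar Q = f := by
    funext u v
    exact hpolar u v
  refine ⟨Q, ⟨?_, ?_, ?_⟩, hpolar, ?_⟩
  · intro t v
    rw [hQ, hQ, hpre_smul, hsm0]
  · rw [hpolar']
    exact hf.bilinear
  · rw [hpolar']
    exact hf.nondegenerate
  · -- invariance
    intro h hh
    obtain ⟨a, b, hab⟩ := (mem_tensorProductSubgroup_iff e P h).1 (hH hh)
    -- the difference `δ z = Q₀ ((a ⊗ b) z) - Q₀ z` is additive and vanishes on the basis
    have hMadd : ∀ x y : Fin d × Fin k → F,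
        Q₀ ((a.1 ⊗ₖ b.1) *ᵥ (x + y)) =
          Q₀ ((a.1 ⊗ₖ b.1) *ᵥ x) + Q₀ ((a.1 ⊗ₖ b.1) *ᵥ y) + f (tT e P x) (tT e P y) := by
      intro x y
      rw [Matrix.mulVec_add, hpol0]
      congr 1
      have h3 := hfix h.1 ⟨h, hh, rfl⟩ (tT e P x) (tT e P y)
      rw [tT_apply, tT_apply, hab, tmat_mulVec, tmat_mulVec] at h3
      rw [tT_apply, tT_apply, tT_apply, tT_apply]
      exact h3
    have hδ : ∀ s : Finset (Fin d × Fin k), ∀ z : Fin d × Fin k → F,
        Q₀ ((a.1 ⊗ₖ b.1) *ᵥ (∑ p ∈ s, Pi.single p (z p))) = Q₀ (∑ p ∈ s, Pi.single p (z p)) := by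
      intro s z
      induction s using Finset.induction_on with
      | empty =>
        rw [Finset.sum_empty, Matrix.mulVec_zero]
      | insert p s hp ih =>
        rw [Finset.sum_insert hp, hMadd, hpol0, ih]
        obtain ⟨i, j⟩ := p
        rw [tev_single, kron_mulVec_ptens, hpt, hpt]
    refine ⟨1, fun v => ?_⟩
    rw [Units.val_one, one_mul, hQ, hQ]
    have h3 : h.1 *ᵥ v = tT e P ((a.1 ⊗ₖ b.1) *ᵥ pre v) := by
      rw [tT_apply, ← tmat_mulVec, ← hab, ← tT_apply, hpre]
    rw [h3, hpre']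
    have h4 := hδ Finset.univ (pre v)
    rw [Finset.univ_sum_single] at h4
    exact h4

end Cfsg.Agent.Lib.Helper57.SP12TEVa
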