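import Mathlib
import Cfsg.Agent.Lib.Helper41.Cores

set_option autoImplicit false

namespace Cfsg.Agent.Lib.Helper57

/-- a Sylow `p`-subgroup of `G` meets a subnormal subgroup `K` in a Sylow `p`-subgroup of `K` -/
theorem sylow_inf_subnormal_not_dvd {G : Type*} [Group G] [Finite G] {p : ℕ} [Fact p.Prime]
    {K : Subgroup G} (hK : K.IsSubnormal) (S : Sylow p G) :
    ¬ p ∣ ((S : Subgroup G) ⊓ K).relIndex K := by
  induction hK with
  | top =>
    rw [inf_top_eq, Subgroup.relIndex_top_right]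
    exact S.not_dvd_index
  | step H K h_le hSubn hN ih =>
    have hpg : IsPGroup p ↥(((S : Subgroup G) ⊓ K).subgroupOf K) :=
      (S.isPGroup'.to_le inf_le_left).comap_subtype
    have hidx : ¬ p ∣ (((S : Subgroup G) ⊓ K).subgroupOf K).index := ih
    have h1 := Cfsg.Agent.Lib.Helper41.sylow_inf_normal_not_dvd (hpg.toSylow hidx) (H.subgroupOf K)
    rw [IsPGroup.toSylow_coe] at h1
    have h2 : ((S : Subgroup G) ⊓ K).subgroupOf K ⊓ H.subgroupOf K
        = ((S : Subgroup G) ⊓ H).subgroupOf K := by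
      ext x
      simp only [Subgroup.mem_inf, Subgroup.mem_subgroupOf]
      constructor
      · rintro ⟨⟨h3, -⟩, h4⟩
        exact ⟨h3, h4⟩
      · rintro ⟨h3, h4⟩
        exact ⟨⟨h3, x.2⟩, h4⟩
    rw [h2, Subgroup.relIndex_subgroupOf h_le] at h1
    exact h1

end Cfsg.Agent.Lib.Helper57
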